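import Groth.Agent.ModTensor.FreeOn
import Mathlib.CategoryTheory.Sites.EpiMono

/-!
# Sections of sheaves of modules, locally
-/

universe u

open CategoryTheory CategoryTheory.Limits Opposite MonoidalCategory
open Groth.Agent.ModTensor

namespace Groth.Agent.ModPull

variable {C : Type u} [SmallCategory C] {J : GrothendieckTopology C}

/-- A property of maps to `W` holds locally. -/
def Locally (J : GrothendieckTopology C) (W : C) (P : ∀ ⦃V : C⦄, (V ⟶ W) → Prop) : Prop :=
  ∃ S ∈ J W, ∀ ⦃V : C⦄ (g : V ⟶ W), S g → P g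

namespace Locally

variable {W : C} {P Q : ∀ ⦃V : C⦄, (V ⟶ W) → Prop}

lemma of_id (h : ∀ ⦃V : C⦄ (g : V ⟶ W), P g) : Locally J W P := ⟨⊤, J.top_mem _, fun _ g _ => h g⟩

lemma mono (h : Locally J W P) (hPQ : ∀ ⦃V : C⦄ (g : V ⟶ W), P g → Q g) : Locally J W Q := by
  obtain ⟨S, hS, hP⟩ := h
  exact ⟨S, hS, fun V g hg => hPQ g (hP g hg)⟩

lemma and (h : Locally J W P) (h' : Locally J W Q) : Locally J W (fun V g => P g ∧ Q g) := by
  obtain ⟨S, hS, hP⟩ := h
  obtain ⟨T, hT, hQ⟩ := h'
  exact ⟨S ⊓ T, J.intersection_covering hS hT, fun V g hg => ⟨hP g hg.1, hQ g hg.2⟩⟩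

lemma bind (h : Locally J W P)
    (h' : ∀ ⦃V : C⦄ (g : V ⟶ W), P g → Locally J V (fun V' g' => Q (g' ≫ g))) : Locally J W Q := by
  obtain ⟨S, hS, hP⟩ := h
  choose T hT hQ using fun ⦃V : C⦄ (g : V ⟶ W) (hg : S g) => h' g (hP g hg)
  refine ⟨Sieve.bind S.arrows T, J.bind_covering hS hT, ?_⟩
  rintro V f ⟨Z, g', g, hg, hg', rfl⟩
  exact hQ g hg g' hg'

lemma forall_finset {ι : Type*} (s : Finset ι) {P : ι → ∀ ⦃V : C⦄, (V ⟶ W) → Prop}
    (h : ∀ i ∈ s, Locally J W (P i)) : Locally J W (fun V g => ∀ i ∈ s, P i g) := by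
  classical
  induction s using Finset.induction_on with
  | empty => exact of_id fun V g i hi => absurd hi (Finset.notMem_empty i)
  | insert a s ha ih =>
    refine ((h a (Finset.mem_insert_self a s)).and
      (ih fun i hi => h i (Finset.mem_insert_of_mem hi))).mono fun V g hg i hi => ?_
    rcases Finset.mem_insert.1 hi with rfl | hi
    exacts [hg.1, hg.2 i hi]

lemma forall_fintype {ι : Type*} [Fintype ι] {P : ι → ∀ ⦃V : C⦄, (V ⟶ W) → Prop}
    (h : ∀ i, Locally J W (P i)) : Locally J W (fun V g => ∀ i, P i g) :=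
  (forall_finset Finset.univ fun i _ => h i).mono fun _ _ hg i => hg i (Finset.mem_univ i)

end Locally

variable {O : Sheaf J CommRingCat.{u}}

lemma eq_of_locally' (N : ModSite.Mod O) {W : C} {a b : ((fg O).obj N).obj (op W)}
    (h : Locally J W (fun V g => rs ((fg O).obj N) g.op a = rs ((fg O).obj N) g.op b)) : a = b := by
  obtain ⟨S, hS, hab⟩ := h
  exact eq_of_locally (J := J) (H := (fg O).obj N) N.isSheaf hS hab

/-- The image of a section in the associated sheaf. -/
noncomputable def shu (P : P₀ O) {X : Cᵒᵖ} (p : P.obj X) : ((fg O).obj ((sh O).obj P)).obj X :=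
  ((shAdj O).unit.app P).app X p

lemma shu_add (P : P₀ O) {X : Cᵒᵖ} (p q : P.obj X) : shu P (p + q) = shu P p + shu P q :=
  map_add (((shAdj O).unit.app P).app X).hom p q

lemma shu_smul (P : P₀ O) {X : Cᵒᵖ} (r : O.obj.obj X) (p : P.obj X) : shu P (r • p) = r • shu P p :=
  map_smul (((shAdj O).unit.app P).app X).hom r p

lemma shu_zero (P : P₀ O) {X : Cᵒᵖ} : shu P (0 : P.obj X) = 0 :=
  map_zero (((shAdj O).unit.app P).app X).hom

lemma rs_shu (P : P₀ O) {X Y : Cᵒᵖ} (g : X ⟶ Y) (p : P.obj X) :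
    rs ((fg O).obj ((sh O).obj P)) g (shu P p) = shu P (rs P g p) :=
  (app_rs ((shAdj O).unit.app P) g p).symm

lemma shu_naturality {P Q : P₀ O} (φ : P ⟶ Q) {X : Cᵒᵖ} (p : P.obj X) :
    ((fg O).map ((sh O).map φ)).app X (shu P p) = shu Q (φ.app X p) :=
  (congrArg (fun k => k.app X p) ((shAdj O).unit.naturality φ)).symm

lemma shu_desc {P : P₀ O} {N : ModSite.Mod O} (φ : (sh O).obj P ⟶ N) {X : Cᵒᵖ} (p : P.obj X) :
    ((fg O).map φ).app X (shu P p) = ((shAdj O).homEquiv P N φ).app X p := by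
  rw [Adjunction.homEquiv_unit]
  rfl

lemma locally_exists_shu (P : P₀ O) {W : C} (z : ((fg O).obj ((sh O).obj P)).obj (op W)) :
    Locally J W (fun V g => ∃ p : P.obj (op V), shu P p = rs ((fg O).obj ((sh O).obj P)) g.op z) := by
  have := isLocallySurjective_unit P
  let τ := (PresheafOfModules.toPresheaf _).map ((shAdj O).unit.app P)
  exact ⟨Presheaf.imageSieve τ (U := W) z, Presheaf.imageSieve_mem J τ (U := op W) z,
    fun V g hg => ⟨hg.choose, hg.choose_spec⟩⟩

lemma locally_eq_of_shu_eq (P : P₀ O) {W : C} (p q : P.obj (op W)) (h : shu P p = shu P q) :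
    Locally J W (fun V g => rs P g.op p = rs P g.op q) := by
  have := isLocallyInjective_unit P
  let τ := (PresheafOfModules.toPresheaf _).map ((shAdj O).unit.app P)
  exact ⟨Presheaf.equalizerSieve (F := (PresheafOfModules.toPresheaf _).obj P) (X := op W) p q,
    Presheaf.equalizerSieve_mem J τ (X := op W) p q h, fun V g hg => hg⟩

lemma locally_exists_app_eq {M N : ModSite.Mod O} (φ : M ⟶ N) [Epi φ] {W : C}
    (z : ((fg O).obj N).obj (op W)) :
    Locally J W (fun V g => ∃ m : ((fg O).obj M).obj (op V),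
      ((fg O).map φ).app (op V) m = rs ((fg O).obj N) g.op z) := by
  have := preservesColimits_toSheaf O
  have : PreservesColimitsOfSize.{0, 0} (SheafOfModules.toSheaf (ModSite.ringSh O)) :=
    preservesColimitsOfSize_shrink _
  have he : Epi ((SheafOfModules.toSheaf (ModSite.ringSh O)).map φ) := Functor.map_epi _ φ
  let τ := (PresheafOfModules.toPresheaf _).map ((fg O).map φ)
  have : Presheaf.IsLocallySurjective J τ := (Sheaf.isLocallySurjective_iff_epi' (A := AddCommGrpCat.{u}) _).2 he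
  exact ⟨Presheaf.imageSieve τ (U := W) z, Presheaf.imageSieve_mem J τ (U := op W) z,
    fun V g hg => ⟨hg.choose, hg.choose_spec⟩⟩

lemma app_injective {M N : ModSite.Mod O} (φ : M ⟶ N) [Mono φ] (X : Cᵒᵖ) :
    Function.Injective (((fg O).map φ).app X) := by
  have := (shAdj O).rightAdjoint_preservesLimits.{0, 0}
  have : Mono ((fg O).map φ) := inferInstance
  exact PresheafOfModules.injective_of_mono ((fg O).map φ) (X := X)

lemma mono_of_app_eq_zero {M N : ModSite.Mod O} (φ : M ⟶ N)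
    (h : ∀ (W : C) (x : ((fg O).obj M).obj (op W)), ((fg O).map φ).app (op W) x = 0 → x = 0) : Mono φ := by
  have : Mono ((fg O).map φ) := PresheafOfModules.mono_of_injective fun {X} a b e =>
    sub_eq_zero.1 (h X.unop (a - b) ((map_sub (((fg O).map φ).app X).hom a b).trans (sub_eq_zero.2 e)))
  exact (fg O).mono_of_mono_map this

lemma freeOnCorepr_symm_comp {U : C} {M N : ModSite.Mod O} (x : ((fg O).obj M).obj (op U)) (φ : M ⟶ N) :
    (freeOnCorepr O U).homEquiv.symm x ≫ φ =
      (freeOnCorepr O U).homEquiv.symm (((fg O).map φ).app (op U) x) := by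
  refine (freeOnCorepr O U).homEquiv.injective ?_
  refine ((freeOnCorepr O U).homEquiv_comp φ _).trans ?_
  refine Eq.trans ?_ ((freeOnCorepr O U).homEquiv.apply_symm_apply _).symm
  exact congrArg (fun t => ((fg O).map φ).app (op U) t) ((freeOnCorepr O U).homEquiv.apply_symm_apply x)

lemma exists_app_eq_of_exact {S : ShortComplex (ModSite.Mod O)} (hS : S.ShortExact) {U : C}
    (y : ((fg O).obj S.X₂).obj (op U)) (h : ((fg O).map S.g).app (op U) y = 0) :
    ∃ x : ((fg O).obj S.X₁).obj (op U), ((fg O).map S.f).app (op U) x = y := by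
  have := hS.mono_f
  let φ : ModSite.freeOn O U ⟶ S.X₂ := (freeOnCorepr O U).homEquiv.symm y
  have h0 : (freeOnCorepr O U).homEquiv (0 : ModSite.freeOn O U ⟶ S.X₃) =
      (0 : ((fg O).obj S.X₃).obj (op U)) := by
    have e := (freeOnCorepr O U).homEquiv_comp (0 : S.X₂ ⟶ S.X₃) φ
    rw [Limits.comp_zero] at e
    exact e
  have hφ : φ ≫ S.g = 0 := (freeOnCorepr O U).homEquiv.injective (by
    refine ((freeOnCorepr O U).homEquiv_comp S.g φ).trans ?_
    refine (congrArg (fun t => ((fg O).map S.g).app (op U) t)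
      ((freeOnCorepr O U).homEquiv.apply_symm_apply y)).trans ?_
    exact h.trans h0.symm)
  refine ⟨(freeOnCorepr O U).homEquiv (hS.exact.lift φ hφ), ?_⟩
  refine ((freeOnCorepr O U).homEquiv_comp S.f (hS.exact.lift φ hφ)).symm.trans ?_
  rw [hS.exact.lift_f φ hφ]
  exact (freeOnCorepr O U).homEquiv.apply_symm_apply y

end Groth.Agent.ModPull
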