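import Groth.Agent.ModPull.Sections

/-!
# Free modules on sums of representable presheaves
-/

universe u

open CategoryTheory CategoryTheory.Limits Opposite MonoidalCategory
open Groth.Agent.ModTensor

namespace Groth.Agent.ModPull

variable {C : Type u} [SmallCategory C] {J : GrothendieckTopology C} {O : Sheaf J CommRingCat.{u}}

/-- A sum of representable presheaves. -/
@[simps]
def sigYon {ι : Type u} (U : ι → C) : Cᵒᵖ ⥤ Type u where
  obj X := Σ i, (X.unop ⟶ U i)
  map g := TypeCat.ofHom fun x => ⟨x.1, g.unop ≫ x.2⟩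
  map_id X := by
    refine ConcreteCategory.hom_ext _ _ fun x => ?_
    exact Sigma.ext rfl (heq_of_eq (Category.id_comp x.2))
  map_comp g g' := by
    refine ConcreteCategory.hom_ext _ _ fun x => ?_
    exact Sigma.ext rfl (heq_of_eq (Category.assoc _ _ _))

variable {ι : Type u} (U : ι → C)

variable (O) in
/-- The free presheaf of modules on a sum of representables. -/
noncomputable abbrev sigFree : P₀ O :=
  PresheafOfModules.freeObj (R := O.obj ⋙ forget₂ CommRingCat.{u} RingCat.{u}) (sigYon U)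

/-- A basis section. -/
noncomputable def bs {X : Cᵒᵖ} (i : ι) (a : X.unop ⟶ U i) : (sigFree O U).obj X :=
  ModuleCat.freeMk (⟨i, a⟩ : (sigYon U).obj X)

lemma rs_bs {X Y : Cᵒᵖ} (g : X ⟶ Y) (i : ι) (a : X.unop ⟶ U i) :
    rs (sigFree O U) g (bs U i a) = bs U i (g.unop ≫ a) := by
  show (ModuleCat.freeDesc _).hom _ = _
  exact ModuleCat.freeDesc_apply _ _

lemma rs_bs_id {X : Cᵒᵖ} (i : ι) (a : X.unop ⟶ U i) :
    rs (sigFree O U) a.op (bs U (X := op (U i)) i (𝟙 (U i))) = bs U i a :=
  (rs_bs U a.op i _).trans (congrArg (fun t => bs U i t) (Category.comp_id a))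

variable {U} {G : P₀ O}

/-- A map out of the free module, from sections. -/
noncomputable def sigDesc (n : ∀ i, G.obj (op (U i))) : sigFree O U ⟶ G :=
  PresheafOfModules.freeObjDesc
    { app := fun X => TypeCat.ofHom fun x => rs G x.2.op (n x.1)
      naturality := fun X Y g => by
        refine ConcreteCategory.hom_ext _ _ fun x => ?_
        exact rs_comp x.2.op g (n x.1) }

lemma sigDesc_bs (n : ∀ i, G.obj (op (U i))) {X : Cᵒᵖ} (i : ι) (a : X.unop ⟶ U i) :
    (sigDesc n).app X (bs U i a) = rs G a.op (n i) :=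
  ModuleCat.freeDesc_apply _ _

lemma sigFree_hom_ext {k₁ k₂ : sigFree O U ⟶ G}
    (h : ∀ i, k₁.app (op (U i)) (bs U i (𝟙 (U i))) = k₂.app (op (U i)) (bs U i (𝟙 (U i)))) : k₁ = k₂ :=
  PresheafOfModules.free_hom_ext (NatTrans.ext (funext fun X => ConcreteCategory.hom_ext _ _ fun x => by
    show k₁.app X (bs U x.1 x.2) = k₂.app X (bs U x.1 x.2)
    rw [← rs_bs_id, app_rs, app_rs, h]))

/-- A section as a finitely supported function. -/
noncomputable def asFinsupp {X : Cᵒᵖ} (p : (sigFree O U).obj X) : (sigYon U).obj X →₀ O.obj.obj X := p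

/-- A coefficient. -/
noncomputable def coef {X : Cᵒᵖ} (i : ι) (a : X.unop ⟶ U i) :
    (sigFree O U).obj X →ₗ[O.obj.obj X] O.obj.obj X where
  toFun p := asFinsupp p ⟨i, a⟩
  map_add' p q := rfl
  map_smul' c p := rfl

lemma coef_bs_self {X : Cᵒᵖ} (i : ι) (a : X.unop ⟶ U i) :
    coef i a (bs (O := O) U i a) = 1 := by
  show (Finsupp.single (⟨i, a⟩ : (sigYon U).obj X) (1 : O.obj.obj X)) _ = 1
  exact Finsupp.single_eq_same

lemma coef_bs_of_idx_ne {X : Cᵒᵖ} (j : ι) (b : X.unop ⟶ U j) (i : ι) (a : X.unop ⟶ U i) (h : i ≠ j) :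
    coef j b (bs (O := O) U i a) = 0 := by
  show (Finsupp.single (⟨i, a⟩ : (sigYon U).obj X) (1 : O.obj.obj X)) _ = 0
  exact Finsupp.single_eq_of_ne' fun e => h (congrArg Sigma.fst e)

lemma coef_bs_of_hom_ne {X : Cᵒᵖ} (i : ι) (b a : X.unop ⟶ U i) (h : a ≠ b) :
    coef i b (bs (O := O) U i a) = 0 := by
  show (Finsupp.single (⟨i, a⟩ : (sigYon U).obj X) (1 : O.obj.obj X)) _ = 0
  exact Finsupp.single_eq_of_ne' fun e => h (eq_of_heq (Sigma.mk.inj_iff.1 e).2)

lemma sigFree_induction {X : Cᵒᵖ} {motive : (sigFree O U).obj X → Prop} (zero : motive 0)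
    (smul : ∀ (c : O.obj.obj X) (i : ι) (a : X.unop ⟶ U i), motive (c • bs U i a))
    (add : ∀ p q, motive p → motive q → motive (p + q)) (p : (sigFree O U).obj X) : motive p := by
  induction p using Finsupp.induction_linear with
  | zero => exact zero
  | add f g hf hg => exact add f g hf hg
  | single x c =>
    have e : (Finsupp.single x c : (sigFree O U).obj X) = c • bs U x.1 x.2 := by
      refine Eq.trans ?_ (Finsupp.smul_single' (R := O.obj.obj X) c x 1).symm
      exact congrArg (fun t => Finsupp.single (M := O.obj.obj X) x t) (mul_one c).symm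
    exact e ▸ smul c x.1 x.2

end Groth.Agent.ModPull
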