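import Groth.Agent.ModPull.Free
import Mathlib.LinearAlgebra.TensorProduct.RightExactness

/-!
# Relations in flat sheaves of modules
-/

universe u

open CategoryTheory CategoryTheory.Limits Opposite MonoidalCategory
open Groth.Agent.ModTensor
open scoped TensorProduct

namespace Groth.Agent.ModPull

/-- An element killed by a surjection comes from the kernel. -/
lemma exists_ker_repr {A : Type*} [CommRing A] {P I M : Type*} [AddCommGroup P] [AddCommGroup I] [AddCommGroup M]
    [Module A P] [Module A I] [Module A M] (q : P →ₗ[A] I) (hq : Function.Surjective q) (z : P ⊗[A] M)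
    (hz : LinearMap.rTensor M q z = 0) :
    ∃ (n : ℕ) (v : Fin n → P) (t : Fin n → M), z = ∑ j, v j ⊗ₜ[A] t j ∧ ∀ j, q (v j) = 0 := by
  obtain ⟨w, rfl⟩ := (rTensor_exact M (LinearMap.exact_subtype_ker_map q) hq z).1 hz
  clear hz
  induction w using TensorProduct.induction_on with
  | zero => exact ⟨0, Fin.elim0, Fin.elim0, by simp, fun j => j.elim0⟩
  | tmul k m => exact ⟨1, fun _ => k, fun _ => m, by simp, fun _ => k.2⟩
  | add a b ha hb =>
    obtain ⟨n, v, t, ea, hv⟩ := ha
    obtain ⟨n', v', t', eb, hv'⟩ := hb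
    refine ⟨n + n', Fin.append v v', Fin.append t t', ?_, fun j => ?_⟩
    · rw [map_add, ea, eb, Fin.sum_univ_add]
      congr 1 <;> exact Finset.sum_congr rfl fun j _ => by simp
    · refine Fin.addCases (fun i => ?_) (fun i => ?_) j
      · rw [Fin.append_left]; exact hv i
      · rw [Fin.append_right]; exact hv' i

variable {C : Type u} [SmallCategory C] {J : GrothendieckTopology C} {O : Sheaf J CommRingCat.{u}}

lemma rs_sum {P : P₀ O} {X Y : Cᵒᵖ} (g : X ⟶ Y) {κ : Type*} (s : Finset κ) (f : κ → P.obj X) :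
    rs P g (∑ k ∈ s, f k) = ∑ k ∈ s, rs P g (f k) := map_sum (P.map g).hom f s

lemma tm_sum_right {P Q : P₀ O} {X : Cᵒᵖ} (p : P.obj X) {κ : Type*} (s : Finset κ) (f : κ → Q.obj X) :
    tm (R := O.obj) p (∑ k ∈ s, f k) = ∑ k ∈ s, tm (R := O.obj) p (f k) :=
  TensorProduct.tmul_sum _ _ _

lemma tm_sum_left {P Q : P₀ O} {X : Cᵒᵖ} (q : Q.obj X) {κ : Type*} (s : Finset κ) (f : κ → P.obj X) :
    tm (R := O.obj) (∑ k ∈ s, f k) q = ∑ k ∈ s, tm (R := O.obj) (f k) q :=
  TensorProduct.sum_tmul _ _ _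

/-- A linear form on the first factor, applied to a tensor. -/
noncomputable def evl {P Q : P₀ O} {X : Cᵒᵖ} (e : P.obj X →ₗ[O.obj.obj X] O.obj.obj X) :
    (P ⊗ Q : P₀ O).obj X →ₗ[O.obj.obj X] Q.obj X :=
  TensorProduct.lift ((LinearMap.lsmul (O.obj.obj X) (Q.obj X)).comp e)

lemma evl_tm {P Q : P₀ O} {X : Cᵒᵖ} (e : P.obj X →ₗ[O.obj.obj X] O.obj.obj X) (p : P.obj X) (q : Q.obj X) :
    evl e (tm (R := O.obj) p q) = e p • q := TensorProduct.lift.tmul p q

/-- Tensoring a mono with a flat sheaf stays injective up to covering. -/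
theorem locally_eq_zero_of_whiskerRight {M : ModSite.Mod O} (hM : ModSite.IsFlat M) {P Q : P₀ O}
    (f : P ⟶ Q) [Mono f] {W : C} (z : (P ⊗ (fg O).obj M : P₀ O).obj (op W))
    (hz : (f ▷ (fg O).obj M).app (op W) z = 0) :
    Locally J W (fun V g => rs (P ⊗ (fg O).obj M : P₀ O) g.op z = 0) := by
  have : PreservesFiniteLimits (sh O) :=
    inferInstanceAs (PreservesFiniteLimits (PresheafOfModules.sheafification (𝟙 (ModSite.ringSh O).obj)))
  have h1 : Mono (((ModSite.tensorBi O).flip.obj M).map ((sh O).map f)) :=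
    (isFlat_iff_mono M).1 hM _ inferInstance
  have h2 : Mono ((sh O).map (f ▷ (fg O).obj M)) :=
    ((MorphismProperty.monomorphisms _).arrow_mk_iso_iff
      (((Functor.mapArrowFunctor _ _).mapIso (shTensorRightIso M)).app (Arrow.mk f))).1 h1
  have h3 : shu (P ⊗ (fg O).obj M : P₀ O) z = shu _ 0 := by
    refine app_injective ((sh O).map (f ▷ (fg O).obj M)) (op W) ?_
    rw [shu_naturality, shu_naturality, hz, map_zero]
  exact (locally_eq_of_shu_eq _ z 0 h3).mono fun V g hg => hg.trans (map_zero _)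

section RelHom

variable {W : C} {κ Y : Type} [Fintype κ] (c : κ → Y → O.obj.obj (op W))

variable (Y W) in
/-- Constant families. -/
abbrev cst : ULift.{u} Y → C := fun _ => W

/-- The map of free modules of a matrix. -/
noncomputable def relHom : sigFree O (cst W Y) ⟶ sigFree O (cst W κ) :=
  sigDesc fun y => ∑ l, c l y.down • bs (cst W κ) (X := op W) ⟨l⟩ (𝟙 W)

lemma relHom_bs {X : Cᵒᵖ} (y : ULift.{u} Y) (a : X.unop ⟶ W) :
    (relHom c).app X (bs (cst W Y) y a) =
      ∑ l, (O.obj.map a.op).hom (c l y.down) • bs (O := O) (cst W κ) ⟨l⟩ a := by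
  unfold relHom
  refine (sigDesc_bs (U := cst W Y) _ y a).trans ?_
  refine (rs_sum (P := sigFree O (cst W κ)) a.op Finset.univ _).trans ?_
  exact Finset.sum_congr rfl fun l _ => (rs_smul a.op _ _).trans
    (congrArg (fun t => (O.obj.map a.op).hom (c l y.down) • t) (rs_bs_id (cst W κ) ⟨l⟩ a))

attribute [irreducible] relHom

lemma coef_relHom [Fintype Y] {V : C} (g : V ⟶ W) (l : κ) (p : (sigFree O (cst W Y)).obj (op V)) :
    coef (U := cst W _) (X := op V) ⟨l⟩ g ((relHom c).app (op V) p) =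
      ∑ y, (O.obj.map g.op).hom (c l y) * coef (U := cst W _) (X := op V) ⟨y⟩ g p := by
  classical
  induction p using sigFree_induction with
  | zero =>
    refine ((congrArg _ (map_zero ((relHom c).app (op V)).hom)).trans (map_zero _)).trans ?_
    exact (Finset.sum_eq_zero fun y _ => by rw [map_zero, mul_zero]).symm
  | add p p' hp hp' =>
    refine ((congrArg _ (map_add ((relHom c).app (op V)).hom p p')).trans (map_add _ _ _)).trans ?_
    refine (congrArg₂ (· + ·) hp hp').trans ?_
    rw [← Finset.sum_add_distrib]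
    exact Finset.sum_congr rfl fun y _ => by rw [map_add, mul_add]
  | smul r y a =>
    refine ((congrArg _ (map_smul ((relHom c).app (op V)).hom r _)).trans (map_smul _ _ _)).trans ?_
    refine (congrArg (fun z => r • coef (U := cst W _) (X := op V) ⟨l⟩ g z) (relHom_bs c y a)).trans ?_
    rw [map_sum, Finset.sum_eq_single l _ (fun h => absurd (Finset.mem_univ _) h),
      Finset.sum_eq_single y.down _ (fun h => absurd (Finset.mem_univ _) h)]
    · by_cases ha : a = g
      · subst ha
        rw [map_smul, map_smul, coef_bs_self, coef_bs_self, smul_eq_mul, smul_eq_mul, smul_eq_mul,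
          mul_one, mul_one]
        exact mul_comm _ _
      · rw [map_smul, map_smul, coef_bs_of_hom_ne (U := cst W κ) ⟨l⟩ g a ha,
          coef_bs_of_hom_ne (U := cst W Y) y g a ha, smul_zero, smul_zero, mul_zero]
    · intro y' _ hy'
      rw [map_smul, coef_bs_of_idx_ne (U := cst W _) _ g y a (fun e => hy' (congrArg ULift.down e).symm), smul_zero, mul_zero]
    · intro l' _ hl'
      rw [map_smul, coef_bs_of_idx_ne (U := cst W κ) ⟨l⟩ g ⟨_⟩ a (fun e => hl' (congrArg ULift.down e)), smul_zero]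

lemma whiskerRight_relHom [Fintype Y] {M : P₀ O} (m : Y → M.obj (op W)) (h : ∀ l, ∑ y, c l y • m y = 0) :
    (relHom c ▷ M).app (op W) (∑ y, tm (bs (cst W Y) ⟨y⟩ (𝟙 W)) (m y)) = 0 := by
  refine (map_sum ((relHom c ▷ M).app (op W)).hom _ _).trans ?_
  have e2 : ∀ y, (relHom c ▷ M).app (op W) (tm (bs (cst W Y) ⟨y⟩ (𝟙 W)) (m y)) =
      ∑ l, tm (bs (O := O) (cst W κ) (X := op W) ⟨l⟩ (𝟙 W)) (c l y • m y) := fun y => by
    refine (whiskerRight_tm (relHom c) _ _).trans ?_
    refine (congrArg (fun p => tm (R := O.obj) p (m y)) (relHom_bs c ⟨y⟩ (𝟙 W))).trans ?_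
    refine (tm_sum_left (m y) Finset.univ _).trans (Finset.sum_congr rfl fun l _ => ?_)
    refine Eq.trans ?_ (TensorProduct.smul_tmul (R := O.obj.obj (op W)) (c l y) _ _)
    exact congrArg (fun r : O.obj.obj (op W) => tm (R := O.obj) (r • bs (O := O) (cst W κ) (X := op W) ⟨l⟩ (𝟙 W)) (m y))
      (by rw [op_id, CategoryTheory.Functor.map_id]; rfl)
  refine (Finset.sum_congr rfl fun y _ => e2 y).trans (Finset.sum_comm.trans ?_)
  refine Finset.sum_eq_zero fun l _ => ?_
  refine (tm_sum_right _ Finset.univ _).symm.trans ?_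
  rw [h l]
  exact TensorProduct.tmul_zero _ _

end RelHom

/-- Relations in flat sheaves of modules are locally trivial. -/
theorem exists_trivialisation {M : ModSite.Mod O} (hM : ModSite.IsFlat M) {W : C} {κ Y : Type}
    [Fintype κ] [Fintype Y] [DecidableEq Y] (c : κ → Y → O.obj.obj (op W))
    (m : Y → ((fg O).obj M).obj (op W)) (h : ∀ l, ∑ y, c l y • m y = 0) :
    Locally J W (fun V g => ∃ (n : ℕ) (N : Fin n → Y → O.obj.obj (op V))
      (t : Fin n → ((fg O).obj M).obj (op V)),
      (∀ y, rs ((fg O).obj M) g.op (m y) = ∑ j, N j y • t j) ∧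
        ∀ l j, ∑ y, (O.obj.map g.op).hom (c l y) * N j y = 0) := by
  classical
  let q := Abelian.factorThruImage (relHom c)
  let i := Abelian.image.ι (relHom c)
  let m' := (fg O).obj M
  let z : (sigFree O (cst W Y) ⊗ m' : P₀ O).obj (op W) := ∑ y, tm (bs (cst W Y) ⟨y⟩ (𝟙 W)) (m y)
  have e0 : q ▷ m' ≫ i ▷ m' = relHom c ▷ m' := by rw [← comp_whiskerRight, Abelian.image.fac]
  have hz : (i ▷ m').app (op W) ((q ▷ m').app (op W) z) = 0 :=
    (congrArg (fun k => k.app (op W) z) e0).trans (whiskerRight_relHom c m h)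
  have : Epi q := inferInstance
  refine (locally_eq_zero_of_whiskerRight hM i _ hz).mono fun V g hg => ?_
  obtain ⟨n, v, t, e, hv⟩ := exists_ker_repr (A := O.obj.obj (op V)) (q.app (op V)).hom
    (PresheafOfModules.surjective_of_epi q (X := op V)) _ ((app_rs (q ▷ m') g.op z).trans hg)
  refine ⟨n, fun j y => coef (U := cst W _) (X := op V) ⟨y⟩ g (v j), t, fun y₀ => ?_, fun l j => ?_⟩
  · have hr : rs (sigFree O (cst W Y) ⊗ m' : P₀ O) g.op z =
        ∑ y, tm (bs (cst W Y) ⟨y⟩ g) (rs m' g.op (m y)) :=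
      (rs_sum g.op Finset.univ _).trans (Finset.sum_congr rfl fun y _ => (rs_tm g.op _ _).trans
        (congrArg (fun b => tm (R := O.obj) b (rs m' g.op (m y))) (rs_bs_id (cst W Y) ⟨y⟩ g)))
    let E := evl (Q := m') (coef (U := cst W Y) (X := op V) ⟨y₀⟩ g)
    have e' : ∑ y, E (tm (bs (cst W Y) ⟨y⟩ g) (rs m' g.op (m y))) = ∑ j, E (tm (v j) (t j)) :=
      ((map_sum E _ _).symm.trans (congrArg (fun w => E w) (hr.symm.trans e))).trans (map_sum E _ _)
    refine Eq.trans ?_ (e'.trans (Finset.sum_congr rfl fun j _ => evl_tm _ _ _))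
    refine Eq.symm ?_
    refine (Finset.sum_eq_single y₀ ?_ fun hy => absurd (Finset.mem_univ _) hy).trans ?_
    · intro y _ hy
      refine (evl_tm _ _ _).trans ?_
      rw [coef_bs_of_idx_ne (U := cst W Y) ⟨y₀⟩ g ⟨y⟩ g (fun e => hy (congrArg ULift.down e)), zero_smul]
    · refine (evl_tm _ _ _).trans ?_
      rw [coef_bs_self, one_smul]
  · have h0 : (relHom c).app (op V) (v j) = 0 := by
      refine (congrArg (fun k => k.app (op V) (v j)) (Abelian.image.fac (relHom c)).symm).trans ?_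
      exact (congrArg (i.app (op V)).hom (hv j)).trans (map_zero _)
    exact (coef_relHom c g l (v j)).symm.trans ((congrArg _ h0).trans (map_zero _))

end Groth.Agent.ModPull
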