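import Groth.Agent.ModPull.Free
import Groth.Agent.ModPull.Criterion

/-!
# Sections of tensor products of sheaves of modules
-/

universe u

open CategoryTheory CategoryTheory.Limits Opposite MonoidalCategory
open Groth.Agent.ModTensor
open scoped TensorProduct

namespace Groth.Agent.ModPull

variable {C : Type u} [SmallCategory C] {J : GrothendieckTopology C} {O : Sheaf J CommRingCat.{u}}

/-- The tensor product of two sheaves of modules. -/
noncomputable abbrev ten (M N : ModSite.Mod O) : ModSite.Mod O := ((ModSite.tensorBi O).obj M).obj N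

variable {M N M' N' Z : ModSite.Mod O}

/-- The product of two sections. -/
noncomputable def shT (M N : ModSite.Mod O) {X : Cᵒᵖ} (x : ((fg O).obj M).obj X) (y : ((fg O).obj N).obj X) :
    ((fg O).obj (ten M N)).obj X :=
  shu ((fg O).obj M ⊗ (fg O).obj N : P₀ O) (tm (R := O.obj) x y)

lemma shT_add_left {X : Cᵒᵖ} (x x' : ((fg O).obj M).obj X) (y : ((fg O).obj N).obj X) :
    shT M N (x + x') y = shT M N x y + shT M N x' y :=
  (congrArg (fun z => shu ((fg O).obj M ⊗ (fg O).obj N : P₀ O) z) (TensorProduct.add_tmul x x' y)).trans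
    (shu_add _ _ _)

lemma shT_add_right {X : Cᵒᵖ} (x : ((fg O).obj M).obj X) (y y' : ((fg O).obj N).obj X) :
    shT M N x (y + y') = shT M N x y + shT M N x y' :=
  (congrArg (fun z => shu ((fg O).obj M ⊗ (fg O).obj N : P₀ O) z) (TensorProduct.tmul_add x y y')).trans
    (shu_add _ _ _)

lemma shT_smul_left {X : Cᵒᵖ} (r : O.obj.obj X) (x : ((fg O).obj M).obj X) (y : ((fg O).obj N).obj X) :
    shT M N (r • x) y = r • shT M N x y :=
  (congrArg (fun z => shu ((fg O).obj M ⊗ (fg O).obj N : P₀ O) z) rfl).trans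
    (shu_smul ((fg O).obj M ⊗ (fg O).obj N : P₀ O) r (tm (R := O.obj) x y))

lemma shT_smul_right {X : Cᵒᵖ} (r : O.obj.obj X) (x : ((fg O).obj M).obj X) (y : ((fg O).obj N).obj X) :
    shT M N x (r • y) = r • shT M N x y :=
  (congrArg (fun z => shu ((fg O).obj M ⊗ (fg O).obj N : P₀ O) z) (TensorProduct.tmul_smul (R := O.obj.obj X) r x y)).trans
    (shu_smul ((fg O).obj M ⊗ (fg O).obj N : P₀ O) r (tm (R := O.obj) x y))

lemma shT_zero_left {X : Cᵒᵖ} (y : ((fg O).obj N).obj X) : shT M N (0 : ((fg O).obj M).obj X) y = 0 :=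
  (congrArg (fun z => shu ((fg O).obj M ⊗ (fg O).obj N : P₀ O) z) (TensorProduct.zero_tmul _ y)).trans
    (shu_zero _)

lemma shT_zero_right {X : Cᵒᵖ} (x : ((fg O).obj M).obj X) : shT M N x (0 : ((fg O).obj N).obj X) = 0 :=
  (congrArg (fun z => shu ((fg O).obj M ⊗ (fg O).obj N : P₀ O) z) (TensorProduct.tmul_zero _ x)).trans
    (shu_zero _)

lemma rs_shT {X Y : Cᵒᵖ} (g : X ⟶ Y) (x : ((fg O).obj M).obj X) (y : ((fg O).obj N).obj X) :
    rs ((fg O).obj (ten M N)) g (shT M N x y) = shT M N (rs ((fg O).obj M) g x) (rs ((fg O).obj N) g y) :=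
  (rs_shu ((fg O).obj M ⊗ (fg O).obj N : P₀ O) g _).trans
    (congrArg (fun z => shu ((fg O).obj M ⊗ (fg O).obj N : P₀ O) z) (rs_tm g x y))

lemma shT_map_left (φ : M ⟶ M') {X : Cᵒᵖ} (x : ((fg O).obj M).obj X) (y : ((fg O).obj N).obj X) :
    ((fg O).map (((ModSite.tensorBi O).map φ).app N)).app X (shT M N x y) =
      shT M' N (((fg O).map φ).app X x) y :=
  (shu_naturality ((fg O).map φ ▷ (fg O).obj N) _).trans
    (congrArg (fun z => shu ((fg O).obj M' ⊗ (fg O).obj N : P₀ O) z) (whiskerRight_tm _ x y))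

lemma shT_map_right (φ : N ⟶ N') {X : Cᵒᵖ} (x : ((fg O).obj M).obj X) (y : ((fg O).obj N).obj X) :
    ((fg O).map (((ModSite.tensorBi O).obj M).map φ)).app X (shT M N x y) =
      shT M N' x (((fg O).map φ).app X y) :=
  shu_naturality ((fg O).obj M ◁ (fg O).map φ) _

lemma shT_hom_ext {k₁ k₂ : ten M N ⟶ Z}
    (h : ∀ (X : Cᵒᵖ) (x : ((fg O).obj M).obj X) (y : ((fg O).obj N).obj X),
      ((fg O).map k₁).app X (shT M N x y) = ((fg O).map k₂).app X (shT M N x y)) : k₁ = k₂ :=
  ((shAdj O).homEquiv ((fg O).obj M ⊗ (fg O).obj N : P₀ O) Z).injective (hom_ext_tm fun X x y =>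
    (shu_desc k₁ (tm (R := O.obj) x y)).symm.trans ((h X x y).trans (shu_desc k₂ (tm (R := O.obj) x y))))

section Free

variable {ι κ : Type u} (U : ι → C) (V : κ → C)

/-- The image of a basis section. -/
noncomputable def sb {X : Cᵒᵖ} (i : ι) (a : X.unop ⟶ U i) : ((fg O).obj ((sh O).obj (sigFree O U))).obj X :=
  shu (sigFree O U) (bs U i a)

lemma rs_sb {X Y : Cᵒᵖ} (g : X ⟶ Y) (i : ι) (a : X.unop ⟶ U i) :
    rs ((fg O).obj ((sh O).obj (sigFree O U))) g (sb U i a) = sb U i (g.unop ≫ a) :=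
  (rs_shu _ g _).trans (congrArg (fun z => shu (sigFree O U) z) (rs_bs U g i a))

variable {U V}

/-- Maps out of a tensor product of free modules agree as soon as they agree on pairs of basis sections. -/
lemma shT_hom_ext_free {k₁ k₂ : ten ((sh O).obj (sigFree O U)) ((sh O).obj (sigFree O V)) ⟶ Z}
    (h : ∀ (X : Cᵒᵖ) (i : ι) (a : X.unop ⟶ U i) (j : κ) (b : X.unop ⟶ V j),
      ((fg O).map k₁).app X (shT _ _ (sb U i a) (sb V j b)) =
        ((fg O).map k₂).app X (shT _ _ (sb U i a) (sb V j b))) : k₁ = k₂ := by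
  refine shT_hom_ext fun X x y => ?_
  refine eq_of_locally' Z (((locally_exists_shu (W := X.unop) (sigFree O U) x).bind
    (Q := fun W g => (∃ p, shu (sigFree O U) p = rs _ g.op x) ∧ (∃ q, shu (sigFree O V) q = rs _ g.op y))
    (fun W g hg => ?_)).mono fun W g ⟨⟨p, hp⟩, q, hq⟩ => ?_)
  · refine (locally_exists_shu (sigFree O V) (rs _ g.op y)).mono fun W' g' ⟨q, hq⟩ => ⟨?_, q, hq.trans ?_⟩
    · obtain ⟨p, hp⟩ := hg
      exact ⟨rs _ g'.op p, (rs_shu _ _ _).symm.trans
        ((congrArg (fun z => rs _ g'.op z) hp).trans (rs_comp g.op g'.op x).symm)⟩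
    · exact (rs_comp g.op g'.op y).symm
  rw [← app_rs, ← app_rs, rs_shT, ← hp, ← hq]
  clear hp hq
  induction p using sigFree_induction with
  | zero => rw [shu_zero, shT_zero_left, map_zero, map_zero]
  | add p p' e e' => rw [shu_add, shT_add_left, map_add, map_add, e, e']
  | smul r i a =>
    rw [shu_smul, shT_smul_left, map_smul, map_smul]
    refine congrArg (fun z => r • z) ?_
    induction q using sigFree_induction with
    | zero => rw [shu_zero, shT_zero_right, map_zero, map_zero]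
    | add q q' e e' => rw [shu_add, shT_add_right, map_add, map_add, e, e']
    | smul s j b =>
      rw [shu_smul, shT_smul_right, map_smul, map_smul]
      exact congrArg (fun z => s • z) (h (op W) i a j b)

end Free

/-- Being a combination of given generators. -/
def IsComb {R M : Type*} [CommRing R] [AddCommGroup M] [Module R M] {γ : Type*} (gen : γ → M) (m : M) : Prop :=
  ∃ (n : ℕ) (x : Fin n → γ) (c : Fin n → R), m = ∑ j, c j • gen (x j)

namespace IsComb

variable {R M : Type*} [CommRing R] [AddCommGroup M] [Module R M] {γ : Type*} {gen : γ → M}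

lemma zero : IsComb (R := R) gen 0 :=
  ⟨0, fun j => j.elim0, fun j => j.elim0, (Finset.sum_eq_zero fun j _ => j.elim0).symm⟩

lemma gen_smul (r : R) (x : γ) : IsComb (R := R) gen (r • gen x) :=
  ⟨1, fun _ => x, fun _ => r, (Fin.sum_univ_one (fun _ => r • gen x)).symm⟩

lemma add {a b : M} (ha : IsComb (R := R) gen a) (hb : IsComb (R := R) gen b) : IsComb (R := R) gen (a + b) := by
  obtain ⟨n, x, c, rfl⟩ := ha
  obtain ⟨n', x', c', rfl⟩ := hb
  refine ⟨n + n', Fin.append x x', Fin.append c c', Eq.symm ((Fin.sum_univ_add _).trans ?_)⟩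
  simp only [Fin.append_left, Fin.append_right]

lemma of_eq {a b : M} (e : a = b) (h : IsComb (R := R) gen b) : IsComb (R := R) gen a := e ▸ h

lemma common {σ : Type} [Fintype σ] (p : σ → M) (h : ∀ l, IsComb (R := R) gen (p l)) :
    ∃ (Y : Type) (_ : Fintype Y) (x : Y → γ) (c : σ → Y → R), ∀ l, p l = ∑ y, c l y • gen (x y) := by
  classical
  choose n x c hc using h
  refine ⟨Σ l, Fin (n l), inferInstance, fun y => x y.1 y.2,
    fun l y => if y.1 = l then c y.1 y.2 else 0, fun l => ?_⟩
  rw [hc l, Fintype.sum_sigma]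
  refine Eq.symm ((Finset.sum_eq_single l (fun l' _ hl' => ?_) fun h => absurd (Finset.mem_univ _) h).trans ?_)
  · exact Finset.sum_eq_zero fun j _ => by dsimp only; rw [if_neg hl', zero_smul]
  · exact Finset.sum_congr rfl fun j _ => by dsimp only; rw [if_pos rfl]

end IsComb

/-- A pair of basis sections. -/
noncomputable def pb {ι κ : Type u} (U : ι → C) (V : κ → C) {X : Cᵒᵖ}
    (x : (sigYon U).obj X × (sigYon V).obj X) : (sigFree O U ⊗ sigFree O V : P₀ O).obj X :=
  tm (R := O.obj) (bs U x.1.1 x.1.2) (bs V x.2.1 x.2.2)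

lemma isComb_pb {ι κ : Type u} (U : ι → C) (V : κ → C) {X : Cᵒᵖ}
    (p : (sigFree O U ⊗ sigFree O V : P₀ O).obj X) :
    IsComb (R := O.obj.obj X) (pb (O := O) U V (X := X)) p := by
  induction p using TensorProduct.induction_on with
  | zero => exact IsComb.zero
  | add p q hp hq => exact hp.add hq
  | tmul p q =>
    show IsComb (R := O.obj.obj X) _ (tm (R := O.obj) p q)
    induction p using sigFree_induction with
    | zero => exact IsComb.zero.of_eq (TensorProduct.zero_tmul _ q)
    | add p p' hp hp' => exact (hp.add hp').of_eq (TensorProduct.add_tmul p p' q)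
    | smul r i a =>
      induction q using sigFree_induction with
      | zero => exact IsComb.zero.of_eq (TensorProduct.tmul_zero _ _)
      | add q q' hq hq' => exact (hq.add hq').of_eq (TensorProduct.tmul_add _ q q')
      | smul s j b =>
        refine (IsComb.gen_smul (R := O.obj.obj X) (gen := pb (O := O) U V (X := X)) (s * r)
          (⟨i, a⟩, ⟨j, b⟩)).of_eq ?_
        refine (TensorProduct.tmul_smul (R := O.obj.obj X) s (r • bs U i a) (bs V j b)).trans ?_
        exact (mul_smul s r (pb (O := O) U V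
          ((⟨i, a⟩, ⟨j, b⟩) : (sigYon U).obj X × (sigYon V).obj X))).symm

lemma coef_bs_of_ne' {ι : Type u} (U : ι → C) {X : Cᵒᵖ} (p q : (sigYon U).obj X) (h : p ≠ q) :
    coef (O := O) (U := U) (X := X) q.1 q.2 (bs U p.1 p.2) = 0 := by
  obtain ⟨i, a⟩ := p
  obtain ⟨j, b⟩ := q
  by_cases hij : i = j
  · subst hij
    exact coef_bs_of_hom_ne (U := U) i b a fun e => h (by subst e; rfl)
  · exact coef_bs_of_idx_ne (U := U) j b i a hij

/-- Coefficients at pairs of basis sections that vanish. -/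
lemma sum_pair_eq_zero {ι κ : Type u} {U : ι → C} {V : κ → C} {X : Cᵒᵖ} {Y : Type} [Fintype Y]
    (v : Y → O.obj.obj X) (x : Y → (sigYon U).obj X × (sigYon V).obj X)
    (h : ∑ y, v y • pb (O := O) U V (x y) = 0) (s : (sigYon U).obj X × (sigYon V).obj X)
    [DecidablePred fun y => x y = s] : ∑ y ∈ Finset.univ.filter (fun y => x y = s), v y = 0 := by
  classical
  let c₁ := coef (O := O) (U := U) (X := X) s.1.1 s.1.2
  let c₂ := coef (O := O) (U := V) (X := X) s.2.1 s.2.2
  have h' := congrArg c₂ (congrArg (evl (Q := sigFree O V) c₁) h)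
  rw [map_sum, map_sum, map_zero, map_zero] at h'
  refine Eq.trans ?_ h'
  rw [Finset.sum_filter]
  refine Finset.sum_congr rfl fun y _ => ?_
  rw [map_smul, map_smul, pb, evl_tm, map_smul, smul_eq_mul, smul_eq_mul]
  by_cases hy : x y = s
  · rw [if_pos hy, hy, coef_bs_self, coef_bs_self, mul_one, mul_one]
  · rw [if_neg hy]
    by_cases h₁ : (x y).1 = s.1
    · rw [coef_bs_of_ne' V (x y).2 s.2 fun e => hy (Prod.ext h₁ e), mul_zero, mul_zero]
    · rw [coef_bs_of_ne' U (x y).1 s.1 h₁, zero_mul, mul_zero]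

end Groth.Agent.ModPull
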