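import Groth.Agent.ModPull.FlatPull
import Groth.Agent.ModPull.TensorSec

/-!
# Inverse images commute with tensor products
-/

universe v w u

open CategoryTheory CategoryTheory.Limits Opposite MonoidalCategory
open Groth.Agent.ModTensor
open scoped TensorProduct

namespace Groth.Agent.ModPull

/-- A map of right exact presentations is an isomorphism on the quotient. -/
lemma isIso_of_presentation {𝒜 : Type w} [Category.{v} 𝒜] [Abelian 𝒜] {X₁ X₂ X₃ Y₁ Y₂ Y₃ : 𝒜}
    (f : X₁ ⟶ X₂) (g : X₂ ⟶ X₃) [Epi g] (f' : Y₁ ⟶ Y₂) (g' : Y₂ ⟶ Y₃) [Epi g'] (hfg : f ≫ g = 0)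
    (w' : f' ≫ g' = 0) (e' : (ShortComplex.mk f' g' w').Exact) (a : X₁ ⟶ Y₁) [Epi a] (b : X₂ ⟶ Y₂) [IsIso b]
    (c : X₃ ⟶ Y₃) (s₁ : f ≫ b = a ≫ f') (s₂ : g ≫ c = b ≫ g') : IsIso c := by
  have : Epi c := by
    have : Epi (g ≫ c) := by rw [s₂]; exact epi_comp _ _
    exact epi_of_epi g c
  have : Mono c := by
    refine Preadditive.mono_of_cancel_zero c fun {T} z hz => ?_
    obtain ⟨T', π₀, _, y, hy⟩ := surjective_up_to_refinements_of_epi g z
    obtain ⟨T₁, π₁, _, x, hx⟩ := e'.exact_up_to_refinements (y ≫ b) (by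
      show (y ≫ b) ≫ g' = 0
      rw [Category.assoc, ← s₂, ← Category.assoc, ← hy, Category.assoc, hz, comp_zero])
    obtain ⟨T₂, π₂, _, x', hx'⟩ := surjective_up_to_refinements_of_epi a x
    have hxb : π₁ ≫ y ≫ b = x ≫ f' := hx
    have e : π₂ ≫ π₁ ≫ y = x' ≫ f := by
      refine (cancel_mono b).1 ?_
      simp only [Category.assoc]
      rw [hxb, ← Category.assoc π₂, hx', Category.assoc, s₁]
    have h0 : (π₂ ≫ π₁ ≫ π₀) ≫ z = 0 := by
      rw [Category.assoc, Category.assoc, hy, ← Category.assoc π₁, ← Category.assoc π₂, e, Category.assoc, hfg,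
        comp_zero]
    exact (cancel_epi (π₂ ≫ π₁ ≫ π₀)).1 (h0.trans comp_zero.symm)
  exact isIso_of_mono_of_epi c

variable {C D : Type u} [SmallCategory C] [SmallCategory D] {J : GrothendieckTopology C}
  {K : GrothendieckTopology D} {O_C : Sheaf J CommRingCat.{u}} {O_D : Sheaf K CommRingCat.{u}}
  (f : ModSite.RMor O_C O_D) (M N : ModSite.Mod O_D)

/-- The comparison map, on presheaves. -/
noncomputable def pullTensorPre : ((fg O_D).obj M ⊗ (fg O_D).obj N : P₀ O_D) ⟶
    (fg O_D).obj (f.push.obj (ten (f.pull.obj M) (f.pull.obj N))) where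
  app U := ModuleCat.MonoidalCategory.tensorLift (R := O_D.obj.obj U)
    (fun x y => shT (f.pull.obj M) (f.pull.obj N) (pu f M x) (pu f N y))
    (fun x x' y => (congrArg (fun z => shT (f.pull.obj M) (f.pull.obj N) z (pu f N y)) (pu_add f M x x')).trans
      (shT_add_left _ _ _))
    (fun r x y => (congrArg (fun z => shT (f.pull.obj M) (f.pull.obj N) z (pu f N y)) (pu_smul f M r x)).trans
      (shT_smul_left _ _ _))
    (fun x y y' => (congrArg (fun z => shT (f.pull.obj M) (f.pull.obj N) (pu f M x) z) (pu_add f N y y')).trans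
      (shT_add_right _ _ _))
    (fun r x y => (congrArg (fun z => shT (f.pull.obj M) (f.pull.obj N) (pu f M x) z) (pu_smul f N r y)).trans
      (shT_smul_right _ _ _))
  naturality {U V} g := ModuleCat.MonoidalCategory.tensor_ext fun x y => by
    show shT _ _ (pu f M (rs ((fg O_D).obj M) g x)) (pu f N (rs ((fg O_D).obj N) g y)) =
      rs ((fg O_C).obj (ten (f.pull.obj M) (f.pull.obj N))) (f.fn.map g.unop).op (shT _ _ (pu f M x) (pu f N y))
    rw [rs_shT, pu_rs, pu_rs]

/-- The comparison map. -/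
noncomputable def pullTensorHom : f.pull.obj (ten M N) ⟶ ten (f.pull.obj M) (f.pull.obj N) :=
  (f.adj.homEquiv _ _).symm (((shAdj O_D).homEquiv ((fg O_D).obj M ⊗ (fg O_D).obj N : P₀ O_D) _).symm
    (pullTensorPre f M N))

lemma homEquiv_pullTensorHom :
    (shAdj O_D).homEquiv ((fg O_D).obj M ⊗ (fg O_D).obj N : P₀ O_D)
      (f.push.obj (ten (f.pull.obj M) (f.pull.obj N)))
      (f.adj.homEquiv _ _ (pullTensorHom f M N)) = pullTensorPre f M N :=
  (congrArg _ (Equiv.apply_symm_apply _ _)).trans (Equiv.apply_symm_apply _ _)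

attribute [irreducible] pullTensorHom

lemma pullTensorHom_pu {U : Dᵒᵖ} (x : ((fg O_D).obj M).obj U) (y : ((fg O_D).obj N).obj U) :
    ((fg O_C).map (pullTensorHom f M N)).app (op (f.fn.obj U.unop)) (pu f (ten M N) (shT M N x y)) =
      shT (f.pull.obj M) (f.pull.obj N) (pu f M x) (pu f N y) := by
  refine (adj_homEquiv_app f (pullTensorHom f M N) _).symm.trans ?_
  refine (shu_desc (f.adj.homEquiv _ _ (pullTensorHom f M N)) (tm (R := O_D.obj) x y)).trans ?_
  exact (congrArg (fun k => k.app U (tm (R := O_D.obj) x y)) (homEquiv_pullTensorHom f M N)).trans rfl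

variable {M N}

lemma pullTensor_hom_ext {Z : ModSite.Mod O_C} {k₁ k₂ : f.pull.obj (ten M N) ⟶ Z}
    (h : ∀ (U : Dᵒᵖ) (x : ((fg O_D).obj M).obj U) (y : ((fg O_D).obj N).obj U),
      ((fg O_C).map k₁).app (op (f.fn.obj U.unop)) (pu f _ (shT M N x y)) =
        ((fg O_C).map k₂).app (op (f.fn.obj U.unop)) (pu f _ (shT M N x y))) : k₁ = k₂ :=
  (f.adj.homEquiv _ _).injective (shT_hom_ext fun U x y =>
    (adj_homEquiv_app f k₁ _).trans ((h U x y).trans (adj_homEquiv_app f k₂ _).symm))

lemma pullTensorHom_naturality_left {M' : ModSite.Mod O_D} (φ : M ⟶ M') :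
    f.pull.map (((ModSite.tensorBi O_D).map φ).app N) ≫ pullTensorHom f M' N =
      pullTensorHom f M N ≫ ((ModSite.tensorBi O_C).map (f.pull.map φ)).app (f.pull.obj N) := by
  refine pullTensor_hom_ext f fun U x y => ?_
  show ((fg O_C).map (pullTensorHom f M' N)).app (op (f.fn.obj U.unop))
      (((fg O_C).map (f.pull.map (((ModSite.tensorBi O_D).map φ).app N))).app (op (f.fn.obj U.unop))
        (pu f (ten M N) (shT M N x y))) =
    ((fg O_C).map (((ModSite.tensorBi O_C).map (f.pull.map φ)).app (f.pull.obj N))).app (op (f.fn.obj U.unop))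
      (((fg O_C).map (pullTensorHom f M N)).app (op (f.fn.obj U.unop)) (pu f (ten M N) (shT M N x y)))
  rw [pu_naturality, pullTensorHom_pu, shT_map_left, pullTensorHom_pu, shT_map_left, pu_naturality]

lemma pullTensorHom_naturality_right {N' : ModSite.Mod O_D} (φ : N ⟶ N') :
    f.pull.map (((ModSite.tensorBi O_D).obj M).map φ) ≫ pullTensorHom f M N' =
      pullTensorHom f M N ≫ ((ModSite.tensorBi O_C).obj (f.pull.obj M)).map (f.pull.map φ) := by
  refine pullTensor_hom_ext f fun U x y => ?_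
  show ((fg O_C).map (pullTensorHom f M N')).app (op (f.fn.obj U.unop))
      (((fg O_C).map (f.pull.map (((ModSite.tensorBi O_D).obj M).map φ))).app (op (f.fn.obj U.unop))
        (pu f (ten M N) (shT M N x y))) =
    ((fg O_C).map (((ModSite.tensorBi O_C).obj (f.pull.obj M)).map (f.pull.map φ))).app (op (f.fn.obj U.unop))
      (((fg O_C).map (pullTensorHom f M N)).app (op (f.fn.obj U.unop)) (pu f (ten M N) (shT M N x y)))
  rw [pu_naturality, pullTensorHom_pu, shT_map_right, pullTensorHom_pu, shT_map_right, pu_naturality]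

section Free

variable {ι κ : Type u} (U : ι → D) (V : κ → D)

/-- The comparison of free modules, followed by the identification with free modules. -/
noncomputable def pullTensorFree :
    f.pull.obj (ten ((sh O_D).obj (sigFree O_D U)) ((sh O_D).obj (sigFree O_D V))) ⟶
      ten ((sh O_C).obj (sigFree O_C (imgFam f U))) ((sh O_C).obj (sigFree O_C (imgFam f V))) :=
  pullTensorHom f _ _ ≫ ((ModSite.tensorBi O_C).map (pullFreeHom f U)).app _ ≫
    ((ModSite.tensorBi O_C).obj _).map (pullFreeHom f V)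

/-- The image of a pair of basis sections in the inverse image of a tensor product. -/
noncomputable def pairSec {X : Dᵒᵖ} (x : (sigYon U).obj X × (sigYon V).obj X) :
    ((fg O_C).obj (f.pull.obj (ten ((sh O_D).obj (sigFree O_D U)) ((sh O_D).obj (sigFree O_D V))))).obj
      (op (f.fn.obj X.unop)) :=
  pu f _ (shT _ _ (sb (O := O_D) U x.1.1 x.1.2) (sb V x.2.1 x.2.2))

lemma pullTensorFree_pairSec {X : Dᵒᵖ} (x : (sigYon U).obj X × (sigYon V).obj X) :
    ((fg O_C).map (pullTensorFree f U V)).app (op (f.fn.obj X.unop)) (pairSec f U V x) =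
      shT _ _ (sb (O := O_C) (imgFam f U) x.1.1 (f.fn.map x.1.2)) (sb (imgFam f V) x.2.1 (f.fn.map x.2.2)) := by
  show ((fg O_C).map (((ModSite.tensorBi O_C).obj _).map (pullFreeHom f V))).app (op (f.fn.obj X.unop))
    (((fg O_C).map (((ModSite.tensorBi O_C).map (pullFreeHom f U)).app _)).app (op (f.fn.obj X.unop))
      (((fg O_C).map (pullTensorHom f _ _)).app (op (f.fn.obj X.unop)) (pairSec f U V x))) = _
  rw [pairSec, pullTensorHom_pu, shT_map_left, shT_map_right]
  exact congrArg₂ (fun a b => shT _ _ a b) (pullFreeHom_pu f U x.1.1 x.1.2) (pullFreeHom_pu f V x.2.1 x.2.2)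

theorem epi_pullTensorFree : Epi (pullTensorFree f U V) := by
  refine ⟨fun {Z} g h e => shT_hom_ext_free fun X i a j b => ?_⟩
  refine eq_of_locally' Z ⟨_, pairSieve_mem (K := K) f.fn (W := X.unop) a b, fun W' t ⟨X', a', b', c, ea, eb⟩ => ?_⟩
  have e1 : rs ((fg O_C).obj _) t.op (shT _ _ (sb (O := O_C) (imgFam f U) i a) (sb (imgFam f V) j b)) =
      rs ((fg O_C).obj _) c.op
        (((fg O_C).map (pullTensorFree f U V)).app (op (f.fn.obj X')) (pairSec f U V (X := op X') (⟨i, a'⟩, ⟨j, b'⟩))) := by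
    rw [pullTensorFree_pairSec, rs_shT, rs_shT, rs_sb, rs_sb, rs_sb, rs_sb]
    exact congrArg₂ (fun p q => shT _ _ (sb (imgFam f U) i p) (sb (imgFam f V) j q)) ea.symm eb.symm
  refine (app_rs ((fg O_C).map g) t.op _).symm.trans (Eq.trans ?_ (app_rs ((fg O_C).map h) t.op _))
  rw [e1, app_rs, app_rs]
  exact congrArg (fun k : _ ⟶ Z => rs ((fg O_C).obj Z) c.op
    (((fg O_C).map k).app (op (f.fn.obj X')) (pairSec f U V (X := op X') (⟨i, a'⟩, ⟨j, b'⟩)))) e

/-- Sections of an inverse image are locally combinations of pulled back sections. -/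
theorem locally_combination (L : ModSite.Mod O_D) {W : C} (z : ((fg O_C).obj (f.pull.obj L)).obj (op W)) :
    Locally J W (fun W' g => ∃ (X : D) (h : W' ⟶ f.fn.obj X) (n : ℕ) (a : Fin n → O_C.obj.obj (op W'))
      (k : Fin n → ((fg O_D).obj L).obj (op X)),
      rs ((fg O_C).obj (f.pull.obj L)) g.op z =
        ∑ l, a l • rs ((fg O_C).obj (f.pull.obj L)) h.op (pu f L (U := op X) (k l))) := by
  let one : ((fg O_C).obj (ModSite.unit O_C)).obj (op W) := (1 : O_C.obj.obj (op W))
  refine (locally_hasRep f (A := ModSite.unit O_C) (tm (R := O_C.obj) one z)).mono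
    fun W' g ⟨X, h, n, a, k, e⟩ => ⟨X, h, n, a, k, ?_⟩
  have e' := congrArg (evl (P := (fg O_C).obj (ModSite.unit O_C)) (Q := (fg O_C).obj (f.pull.obj L))
    (X := op W') LinearMap.id) ((rs_tm g.op one z).symm.trans e)
  refine Eq.trans ?_ (e'.trans ((map_sum _ _ _).trans (Finset.sum_congr rfl fun l _ => evl_tm _ _ _)))
  refine Eq.trans ?_ (evl_tm _ _ _).symm
  show _ = (O_C.obj.map g.op).hom 1 • rs ((fg O_C).obj (f.pull.obj L)) g.op z
  rw [map_one, one_smul]

lemma locally_equalize_pairs {W : C} {X : D} (h : W ⟶ f.fn.obj X) {Y : Type}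
    (x : Y → (sigYon U).obj (op X) × (sigYon V).obj (op X)) (P : Finset (Y × Y))
    (hP : ∀ p ∈ P, (⟨(x p.1).1.1, h ≫ f.fn.map (x p.1).1.2⟩ : (sigYon (imgFam f U)).obj (op W)) =
        ⟨(x p.2).1.1, h ≫ f.fn.map (x p.2).1.2⟩ ∧
      (⟨(x p.1).2.1, h ≫ f.fn.map (x p.1).2.2⟩ : (sigYon (imgFam f V)).obj (op W)) =
        ⟨(x p.2).2.1, h ≫ f.fn.map (x p.2).2.2⟩) :
    Locally J W (fun W' g => ∃ (X' : D) (c : X' ⟶ X) (h' : W' ⟶ f.fn.obj X'), h' ≫ f.fn.map c = g ≫ h ∧
      ∀ p ∈ P, ((sigYon U).map c.op (x p.1).1, (sigYon V).map c.op (x p.1).2) =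
        ((sigYon U).map c.op (x p.2).1, (sigYon V).map c.op (x p.2).2)) := by
  refine (locally_equalize f U h (fun y => (x y).1.1) (fun y => (x y).1.2) P (fun p hp => (hP p hp).1)).bind
    fun W' g ⟨X', c, h', e, hc⟩ => ?_
  refine (locally_equalize f V h' (fun y => (x y).2.1) (fun y => c ≫ (x y).2.2) P (fun p hp => ?_)).mono
    fun W'' g' ⟨X'', c', h'', e', hc'⟩ => ⟨X'', c' ≫ c, h'', ?_, fun p hp => Prod.ext ?_ ?_⟩
  · have := congrArg (fun z => (sigYon (imgFam f V)).map g.op z) (hP p hp).2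
    simp only [f.fn.map_comp, reassoc_of% e]
    exact this
  · rw [f.fn.map_comp, reassoc_of% e', e, Category.assoc]
  · have := congrArg (fun z => (sigYon U).map c'.op z) (hc p hp)
    show (⟨(x p.1).1.1, (c' ≫ c) ≫ (x p.1).1.2⟩ : (sigYon U).obj (op X'')) = ⟨(x p.2).1.1, (c' ≫ c) ≫ (x p.2).1.2⟩
    simp only [Category.assoc]
    exact this
  · show (⟨(x p.1).2.1, (c' ≫ c) ≫ (x p.1).2.2⟩ : (sigYon V).obj (op X'')) = ⟨(x p.2).2.1, (c' ≫ c) ≫ (x p.2).2.2⟩
    simp only [Category.assoc]
    exact hc' p hp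

theorem mono_pullTensorFree : Mono (pullTensorFree f U V) := by
  classical
  let L := ten ((sh O_D).obj (sigFree O_D U)) ((sh O_D).obj (sigFree O_D V))
  let η₁ := (shAdj O_D).unit.app (sigFree O_D U)
  let η₂ := (shAdj O_D).unit.app (sigFree O_D V)
  let T := ten ((sh O_C).obj (sigFree O_C (imgFam f U))) ((sh O_C).obj (sigFree O_C (imgFam f V)))
  refine mono_of_app_eq_zero _ fun W z hz => eq_of_locally' _ ?_
  refine (locally_combination f L z).bind fun W' g ⟨X, h, n, a, k, hk⟩ => ?_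
  -- lift the finitely many sections to the presheaf tensor product of free modules
  have hlift : ∀ l, Locally K X (fun X' c => ∃ p : (sigFree O_D U ⊗ sigFree O_D V : P₀ O_D).obj (op X'),
      rs ((fg O_D).obj L) c.op (k l) = ((fg O_D).map ((sh O_D).map (η₁ ⊗ₘ η₂))).app (op X') (shu _ p)) := fun l => by
    have := isIso_sh_map_tensorHom_unit (sigFree O_D U) (sigFree O_D V)
    obtain ⟨w, hw⟩ : ∃ w, ((fg O_D).map ((sh O_D).map (η₁ ⊗ₘ η₂))).app (op X) w = k l :=
      ⟨((fg O_D).map (inv ((sh O_D).map (η₁ ⊗ₘ η₂)))).app (op X) (k l),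
        congrArg (fun t => ((fg O_D).map t).app (op X) (k l)) (IsIso.inv_hom_id ((sh O_D).map (η₁ ⊗ₘ η₂)))⟩
    refine (locally_exists_shu _ w).mono fun X' c ⟨p, hp⟩ => ⟨p, ?_⟩
    rw [hp, app_rs, hw]
    rfl
  refine (locally_lift f (Locally.forall_fintype hlift) h).bind fun W'' g' ⟨X', c, h', hp, e⟩ => ?_
  choose p hp using hp
  obtain ⟨Y, _, x, cc, hcc⟩ := IsComb.common p fun l => isComb_pb (O := O_D) U V (p l)
  let v : Y → O_C.obj.obj (op W'') := fun y =>
    ∑ l, (O_C.obj.map g'.op).hom (a l) * (O_C.obj.map h'.op).hom (shp f (cc l y))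
  have hz' : rs ((fg O_C).obj (f.pull.obj L)) (g' ≫ g).op z =
      ∑ y, v y • rs ((fg O_C).obj (f.pull.obj L)) h'.op (pairSec f U V (x y)) := by
    rw [op_comp, rs_comp, hk, rs_sum]
    have el : ∀ l, rs ((fg O_C).obj (f.pull.obj L)) g'.op
        (a l • rs ((fg O_C).obj (f.pull.obj L)) h.op (pu f L (U := op X) (k l))) =
        ∑ y, ((O_C.obj.map g'.op).hom (a l) * (O_C.obj.map h'.op).hom (shp f (cc l y))) •
          rs ((fg O_C).obj (f.pull.obj L)) h'.op (pairSec f U V (x y)) := fun l => by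
      rw [rs_smul, ← rs_comp, ← op_comp, ← e, op_comp, rs_comp]
      have e2 : rs ((fg O_C).obj (f.pull.obj L)) (f.fn.map c).op (pu f L (U := op X) (k l)) =
          ∑ y, shp f (cc l y) • pairSec f U V (x y) := by
        refine (pu_rs f L c.op (k l)).symm.trans ?_
        rw [hp l, hcc l]
        have e3 : ((fg O_D).map ((sh O_D).map (η₁ ⊗ₘ η₂))).app (op X')
            (shu _ (∑ y, cc l y • pb (O := O_D) U V (x y))) =
            ∑ y, cc l y • shT _ _ (sb (O := O_D) U (x y).1.1 (x y).1.2) (sb V (x y).2.1 (x y).2.2) := by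
          refine (congrArg _ (map_sum (((shAdj O_D).unit.app _).app (op X')).hom _ _)).trans ?_
          refine (map_sum _ _ _).trans (Finset.sum_congr rfl fun y _ => ?_)
          refine (congrArg _ (shu_smul _ _ _)).trans ((map_smul _ _ _).trans (congrArg (fun t => cc l y • t) ?_))
          exact shu_naturality (η₁ ⊗ₘ η₂) _
        rw [e3, pu_sum]
        exact Finset.sum_congr rfl fun y _ => pu_smul f L _ _
      rw [e2, rs_sum, Finset.smul_sum]
      exact Finset.sum_congr rfl fun y _ =>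
        (congrArg (fun t => (O_C.obj.map g'.op).hom (a l) • t) (rs_smul h'.op _ _)).trans (smul_smul _ _ _)
    refine (Finset.sum_congr rfl fun l _ => el l).trans (Finset.sum_comm.trans (Finset.sum_congr rfl fun y _ => ?_))
    exact (Finset.sum_smul).symm
  let x' : Y → (sigYon (imgFam f U)).obj (op W'') × (sigYon (imgFam f V)).obj (op W'') := fun y =>
    (⟨(x y).1.1, h' ≫ f.fn.map (x y).1.2⟩, ⟨(x y).2.1, h' ≫ f.fn.map (x y).2.2⟩)
  let z₀ := ∑ y, v y • pb (O := O_C) (imgFam f U) (imgFam f V) (x' y)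
  have hz0 : shu (sigFree O_C (imgFam f U) ⊗ sigFree O_C (imgFam f V) : P₀ O_C) z₀ = shu _ 0 := by
    have := isIso_sh_map_tensorHom_unit (sigFree O_C (imgFam f U)) (sigFree O_C (imgFam f V))
    let η' := (sh O_C).map ((shAdj O_C).unit.app (sigFree O_C (imgFam f U)) ⊗ₘ
      (shAdj O_C).unit.app (sigFree O_C (imgFam f V)))
    refine app_injective η' (op W'') ?_
    rw [shu_zero, map_zero]
    have hT : ((fg O_C).map (pullTensorFree f U V)).app (op W'')
        (rs ((fg O_C).obj (f.pull.obj L)) (g' ≫ g).op z) = 0 := by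
      rw [app_rs, hz]
      exact map_zero _
    rw [hz', map_sum] at hT
    refine Eq.trans ?_ hT
    refine (congrArg _ (map_sum (((shAdj O_C).unit.app _).app (op W'')).hom _ _)).trans ?_
    refine (map_sum _ _ _).trans (Finset.sum_congr rfl fun y _ => ?_)
    refine (congrArg _ (shu_smul _ _ _)).trans ((map_smul _ _ _).trans ?_)
    refine Eq.trans (congrArg (fun t => v y • t) ?_) (map_smul _ _ _).symm
    refine Eq.trans ?_ (app_rs ((fg O_C).map (pullTensorFree f U V)) h'.op _).symm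
    rw [pullTensorFree_pairSec, rs_shT, rs_sb, rs_sb]
    exact shu_naturality _ _
  refine (locally_eq_of_shu_eq _ z₀ 0 hz0).bind (Q := fun W₃ g₃ => rs ((fg O_C).obj (f.pull.obj L))
    ((g₃ ≫ g') ≫ g).op z = rs ((fg O_C).obj (f.pull.obj L)) ((g₃ ≫ g') ≫ g).op 0) fun W₃ g₃ hg₃ => ?_
  let x₃ : Y → (sigYon (imgFam f U)).obj (op W₃) × (sigYon (imgFam f V)).obj (op W₃) := fun y =>
    (⟨(x y).1.1, (g₃ ≫ h') ≫ f.fn.map (x y).1.2⟩, ⟨(x y).2.1, (g₃ ≫ h') ≫ f.fn.map (x y).2.2⟩)
  have h0 : ∑ y, (O_C.obj.map g₃.op).hom (v y) • pb (O := O_C) (imgFam f U) (imgFam f V) (x₃ y) = 0 := by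
    refine Eq.trans ?_ (hg₃.trans (map_zero _))
    refine Eq.trans ?_ (rs_sum (P := (sigFree O_C (imgFam f U) ⊗ sigFree O_C (imgFam f V) : P₀ O_C))
      g₃.op Finset.univ _).symm
    refine Finset.sum_congr rfl fun y _ => Eq.trans ?_ (rs_smul _ _ _).symm
    refine congrArg (fun t => (O_C.obj.map g₃.op).hom (v y) • t) ?_
    refine Eq.trans ?_ (rs_tm g₃.op _ _).symm
    rw [rs_bs, rs_bs]
    simp only [x₃, x', pb, Category.assoc]
    rfl
  let P : Finset (Y × Y) := Finset.univ.filter fun q => x₃ q.1 = x₃ q.2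
  refine (locally_equalize_pairs f U V (g₃ ≫ h') x P (fun q hq => Prod.ext_iff.1 (Finset.mem_filter.1 hq).2)).mono
    fun W₄ g₄ ⟨X₄, d, h₄, ed, hd⟩ => ?_
  refine Eq.trans ?_ (map_zero _).symm
  have hz4 : rs ((fg O_C).obj (f.pull.obj L)) (((g₄ ≫ g₃) ≫ g') ≫ g).op z =
      rs ((fg O_C).obj (f.pull.obj L)) (g₄ ≫ g₃).op (rs ((fg O_C).obj (f.pull.obj L)) (g' ≫ g).op z) := by
    rw [Category.assoc]
    exact rs_comp (g' ≫ g).op (g₄ ≫ g₃).op z
  refine hz4.trans ?_
  rw [hz', rs_sum]
  let γ : Y → (sigYon U).obj (op X₄) × (sigYon V).obj (op X₄) := fun y =>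
    ((sigYon U).map d.op (x y).1, (sigYon V).map d.op (x y).2)
  let Φ : (sigYon U).obj (op X₄) × (sigYon V).obj (op X₄) → ((fg O_C).obj (f.pull.obj L)).obj (op W₄) := fun q =>
    rs ((fg O_C).obj (f.pull.obj L)) h₄.op (pairSec f U V q)
  let w : Y → O_C.obj.obj (op W₄) := fun y => (O_C.obj.map g₄.op).hom ((O_C.obj.map g₃.op).hom (v y))
  have ey : ∀ y, rs ((fg O_C).obj (f.pull.obj L)) (g₄ ≫ g₃).op
      (v y • rs ((fg O_C).obj (f.pull.obj L)) h'.op (pairSec f U V (x y))) = w y • Φ (γ y) := fun y => by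
    refine (rs_smul _ _ _).trans ?_
    refine congrArg₂ (fun r t => r • t) ?_ ?_
    · rw [op_comp, O_C.obj.map_comp]
      rfl
    · rw [← rs_comp, ← op_comp, Category.assoc, ← ed, op_comp, rs_comp]
      refine congrArg (fun t => rs ((fg O_C).obj (f.pull.obj L)) h₄.op t) ?_
      refine (pu_rs f L (V := op X₄) d.op _).symm.trans (congrArg (fun t => pu f L t) ?_)
      rw [rs_shT, rs_sb, rs_sb]
      rfl
  rw [Finset.sum_congr rfl fun y _ => ey y,
    ← Finset.sum_fiberwise_of_maps_to (t := Finset.univ.image γ) (g := γ)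
      (fun y _ => Finset.mem_image_of_mem γ (Finset.mem_univ y))]
  refine Finset.sum_eq_zero fun q _ => ?_
  have hsum : ∑ y ∈ Finset.univ.filter (fun y => γ y = q), w y = 0 := by
    rw [← Finset.sum_fiberwise_of_maps_to (t := Finset.univ.image x₃) (g := x₃)
      (fun y _ => Finset.mem_image_of_mem x₃ (Finset.mem_univ y))]
    refine Finset.sum_eq_zero fun s _ => ?_
    by_cases hs : ∃ y, x₃ y = s ∧ γ y = q
    · obtain ⟨y₀, hy₀, hq⟩ := hs
      refine Eq.trans ?_ ((congrArg (O_C.obj.map g₄.op).hom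
        (sum_pair_eq_zero (fun y => (O_C.obj.map g₃.op).hom (v y)) x₃ h0 s)).trans (map_zero _))
      rw [map_sum]
      refine Finset.sum_congr ?_ fun _ _ => rfl
      ext y
      simp only [Finset.mem_filter, Finset.mem_univ, true_and]
      refine ⟨fun h => h.2, fun h => ⟨?_, h⟩⟩
      rw [← hq]
      exact hd (y, y₀) (Finset.mem_filter.2 ⟨Finset.mem_univ _, h.trans hy₀.symm⟩)
    · refine Finset.sum_eq_zero fun y hy => absurd ⟨y, ?_⟩ hs
      simp only [Finset.mem_filter, Finset.mem_univ, true_and] at hy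
      exact ⟨hy.2, hy.1⟩
  refine Eq.trans (Finset.sum_congr rfl fun y hy => ?_) ((Finset.sum_smul (f := w) (x := Φ q)).symm.trans
    ((congrArg (fun r => r • Φ q) hsum).trans (zero_smul _ _)))
  rw [(Finset.mem_filter.1 hy).2]

theorem isIso_pullTensorHom_free :
    IsIso (pullTensorHom f ((sh O_D).obj (sigFree O_D U)) ((sh O_D).obj (sigFree O_D V))) := by
  have := epi_pullTensorFree f U V
  have := mono_pullTensorFree f U V
  have h : IsIso (pullTensorFree f U V) := isIso_of_mono_of_epi _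
  have h1 : IsIso (pullFreeHom f U) := (pullFreeIso f U).isIso_hom
  have h2 : IsIso (pullFreeHom f V) := (pullFreeIso f V).isIso_hom
  unfold pullTensorFree at h
  exact IsIso.of_isIso_comp_right _ (((ModSite.tensorBi O_C).map (pullFreeHom f U)).app _ ≫
    ((ModSite.tensorBi O_C).obj _).map (pullFreeHom f V))

end Free

section General

variable (M N)

instance preservesFiniteColimits_pullTensor_flip :
    PreservesFiniteColimits ((ModSite.tensorBi O_D).flip.obj N ⋙ f.pull) :=
  comp_preservesFiniteColimits _ _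

theorem isIso_pullTensorHom_left_free {ι : Type u} (U : ι → D) :
    IsIso (pullTensorHom f ((sh O_D).obj (sigFree O_D U)) N) := by
  let F := (sh O_D).obj (sigFree O_D U)
  have := additive_pull f
  have : f.pull.PreservesEpimorphisms := Functor.preservesEpimorphisms_of_adjunction f.adj
  let q := coverHom N
  let j := coverHom (kernel q) ≫ kernel.ι q
  have hS : (ShortComplex.mk (kernel.ι q) q (kernel.condition q)).Exact :=
    ShortComplex.exact_of_f_is_kernel _ (kernelIsKernel q)
  have hw : j ≫ q = 0 := by rw [Category.assoc, kernel.condition, comp_zero]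
  have hj : (ShortComplex.mk j q hw).Exact := by
    let φ : ShortComplex.mk j q hw ⟶ ShortComplex.mk (kernel.ι q) q (kernel.condition q) :=
      { τ₁ := coverHom (kernel q), τ₂ := 𝟙 _, τ₃ := 𝟙 _
        comm₁₂ := (Category.comp_id _).symm
        comm₂₃ := (Category.id_comp _).trans (Category.comp_id _).symm }
    have : Epi φ.τ₁ := inferInstanceAs (Epi (coverHom (kernel q)))
    have : IsIso φ.τ₂ := inferInstanceAs (IsIso (𝟙 _))
    have : Mono φ.τ₃ := inferInstanceAs (Mono (𝟙 _))
    exact (ShortComplex.exact_iff_of_epi_of_isIso_of_mono φ).2 hS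
  let T₂ := f.pull ⋙ (ModSite.tensorBi O_C).obj (f.pull.obj F)
  have : PreservesFiniteColimits T₂ := comp_preservesFiniteColimits _ _
  have e' : ((ShortComplex.mk j q hw).map T₂).Exact :=
    hj.map_of_epi_of_preservesCokernel T₂ inferInstance inferInstance
  have h1 := isIso_pullTensorHom_free f U (fun p : (Σ U : D, ((fg O_D).obj (kernel q)).obj (op U)) => p.1)
  have h2 := isIso_pullTensorHom_free f U (fun p : (Σ U : D, ((fg O_D).obj N).obj (op U)) => p.1)
  exact isIso_of_presentation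
    (f.pull.map (((ModSite.tensorBi O_D).obj F).map j)) (f.pull.map (((ModSite.tensorBi O_D).obj F).map q))
    (T₂.map j) (T₂.map q) (by rw [← Functor.map_comp, ← Functor.map_comp, hw, Functor.map_zero, Functor.map_zero])
    ((ShortComplex.mk j q hw).map T₂).zero e' _ (pullTensorHom f F _) (pullTensorHom f F N)
    (pullTensorHom_naturality_right f j) (pullTensorHom_naturality_right f q)

theorem isIso_pullTensorHom : IsIso (pullTensorHom f M N) := by
  have := additive_pull f
  have : f.pull.PreservesEpimorphisms := Functor.preservesEpimorphisms_of_adjunction f.adj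
  let q := coverHom M
  let j := coverHom (kernel q) ≫ kernel.ι q
  have hS : (ShortComplex.mk (kernel.ι q) q (kernel.condition q)).Exact :=
    ShortComplex.exact_of_f_is_kernel _ (kernelIsKernel q)
  have hw : j ≫ q = 0 := by rw [Category.assoc, kernel.condition, comp_zero]
  have hj : (ShortComplex.mk j q hw).Exact := by
    let φ : ShortComplex.mk j q hw ⟶ ShortComplex.mk (kernel.ι q) q (kernel.condition q) :=
      { τ₁ := coverHom (kernel q), τ₂ := 𝟙 _, τ₃ := 𝟙 _
        comm₁₂ := (Category.comp_id _).symm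
        comm₂₃ := (Category.id_comp _).trans (Category.comp_id _).symm }
    have : Epi φ.τ₁ := inferInstanceAs (Epi (coverHom (kernel q)))
    have : IsIso φ.τ₂ := inferInstanceAs (IsIso (𝟙 _))
    have : Mono φ.τ₃ := inferInstanceAs (Mono (𝟙 _))
    exact (ShortComplex.exact_iff_of_epi_of_isIso_of_mono φ).2 hS
  let T₁ := (ModSite.tensorBi O_D).flip.obj N ⋙ f.pull
  let T₂ := f.pull ⋙ (ModSite.tensorBi O_C).flip.obj (f.pull.obj N)
  have : PreservesFiniteColimits T₂ := comp_preservesFiniteColimits _ _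
  have e' : ((ShortComplex.mk j q hw).map T₂).Exact :=
    hj.map_of_epi_of_preservesCokernel T₂ inferInstance inferInstance
  have h1 := isIso_pullTensorHom_left_free f N (fun p : (Σ U : D, ((fg O_D).obj M).obj (op U)) => p.1)
  have h2 := isIso_pullTensorHom_left_free f N
    (fun p : (Σ U : D, ((fg O_D).obj (kernel q)).obj (op U)) => p.1)
  have s1 := pullTensorHom_naturality_left (M := _) (N := N) f j
  have s2 := pullTensorHom_naturality_left (N := N) f q
  have w1 : T₁.map j ≫ T₁.map q = 0 := (T₁.map_comp j q).symm.trans ((congrArg (fun t => T₁.map t) hw).trans (T₁.map_zero _ _))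
  let c₁ : f.pull.obj (ten M N) ⟶ T₂.obj M := pullTensorHom f M N
  have s2' : T₁.map q ≫ c₁ = pullTensorHom f ((sh O_D).obj (sigFree O_D fun p : (Σ U : D, ((fg O_D).obj M).obj (op U)) => p.1)) N ≫ T₂.map q := s2
  have : Epi (T₁.map q) := inferInstance
  have : Epi (T₂.map q) := inferInstance
  let a₁ := pullTensorHom f ((sh O_D).obj (sigFree O_D fun p : (Σ U : D, ((fg O_D).obj (kernel q)).obj (op U)) => p.1)) N
  let b₁ := pullTensorHom f ((sh O_D).obj (sigFree O_D fun p : (Σ U : D, ((fg O_D).obj M).obj (op U)) => p.1)) N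
  have : Epi a₁ := inferInstance
  have : IsIso b₁ := h1
  exact @isIso_of_presentation _ _ _ _ _ _ _ _ _ (T₁.map j) (T₁.map q) inferInstance (T₂.map j) (T₂.map q) inferInstance w1
    ((ShortComplex.mk j q hw).map T₂).zero e' a₁ inferInstance b₁ inferInstance c₁ s1 s2'

/-- Inverse images commute with tensor products, naturally in the first factor. -/
noncomputable def pullTensorIso :
    (ModSite.tensorBi O_D).flip.obj N ⋙ f.pull ≅ f.pull ⋙ (ModSite.tensorBi O_C).flip.obj (f.pull.obj N) :=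
  NatIso.ofComponents (fun M => @asIso _ _ _ _ (pullTensorHom f M N) (isIso_pullTensorHom f M N))
    (fun φ => pullTensorHom_naturality_left f φ)

end General

end Groth.Agent.ModPull
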