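import Groth.Agent.ModPull.Local
import Mathlib.CategoryTheory.Limits.Shapes.BinaryProducts
import Mathlib.CategoryTheory.Limits.Shapes.Equalizers

/-!
# Refinements along a continuous functor with exact pullback
-/

universe u

open CategoryTheory CategoryTheory.Limits Opposite

namespace Groth.Agent.ModPull

variable {C D : Type u} [SmallCategory C] [SmallCategory D] {J : GrothendieckTopology C}
  {K : GrothendieckTopology D} (u : D ⥤ C)

/-- The sieve of the maps factoring through the image of the arrows of a sieve, pulled back along `g`. -/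
def imgSieve {U : D} (S : Sieve U) {W : C} (g : W ⟶ u.obj U) : Sieve W where
  arrows W' f := ∃ (V : D) (a : V ⟶ U) (h : W' ⟶ u.obj V), S a ∧ h ≫ u.map a = f ≫ g
  downward_closed := by
    rintro W₁ W₂ f ⟨V, a, h, ha, e⟩ t
    exact ⟨V, a, t ≫ h, ha, by rw [Category.assoc, e, Category.assoc]⟩

/-- A continuous functor pushes covering sieves to covering families. -/
theorem imgSieve_mem [u.IsContinuous K J] {U : D} {S : Sieve U} (hS : S ∈ K U) {W : C} (g : W ⟶ u.obj U) :
    imgSieve u S g ∈ J W := by
  have h1 : imgSieve u S (𝟙 (u.obj U)) ∈ J (u.obj U) := by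
    have hN := ((isSheaf_iff_isSheaf_of_type _ _).1
      ((u.sheafPushforwardContinuous (Type u) K J).obj (closedSheaf J)).property).isSheafFor S.arrows (by rwa [Sieve.generate_sieve])
    let T := imgSieve u S (𝟙 (u.obj U))
    have h : (⟨J.close T, J.close_isClosed T⟩ : (closedSheaf J).obj.obj (op (u.obj U))) =
        ⟨J.close (⊤ : Sieve _), J.close_isClosed _⟩ := by
      refine hN.isSeparatedFor.ext fun V a ha => Subtype.ext ?_
      show (J.close T).pullback (u.map a) = (J.close ⊤).pullback (u.map a)
      rw [← GrothendieckTopology.pullback_close, ← GrothendieckTopology.pullback_close]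
      refine congrArg J.close (le_antisymm (fun Z f _ => trivial) ?_)
      intro Z f _
      exact ⟨V, a, f, ha, (Category.comp_id _).symm⟩
    exact (J.close_eq_top_iff_mem _).1 ((congrArg Subtype.val h).trans
      ((J.close_eq_top_iff_mem _).2 (J.top_mem _)))
  refine J.superset_covering ?_ (J.pullback_stable g h1)
  rintro Z f ⟨V, a, h, ha, e⟩
  exact ⟨V, a, h, ha, by rw [e, Category.comp_id]⟩

/-- The maps into the image of `u`. -/
def someSieve (W : C) : Sieve W where
  arrows W' _ := ∃ U : D, Nonempty (W' ⟶ u.obj U)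
  downward_closed := by
    rintro W₁ W₂ f ⟨U, ⟨h⟩⟩ t
    exact ⟨U, ⟨t ≫ h⟩⟩

/-- The image of `u` covers. -/
theorem someSieve_mem [u.IsContinuous K J]
    [PreservesFiniteLimits (u.sheafPullback (Type u) K J)] (W : C) : someSieve u W ∈ J W := by
  let ι := PEmpty.{1}
  let F := Functor.empty.{0} (Dᵒᵖ ⥤ Type u)
  let G := Functor.empty.{0} (Cᵒᵖ ⥤ Type u)
  let β : ∀ i, F.obj i ⟶ u.op ⋙ G.obj i := fun i => i.as.elim
  have : ∀ i, IsIso (comparison J K u (β i)) := fun i => i.as.elim
  have key := eq_of_limit (J := J) (K := K) (u := u) (F := F) (G := G) β (fun i => i.as.elim)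
    (limit.isLimit F) (limit.isLimit G) (closedSheaf J)
    (classify J (fun W _ => someSieve u W) (fun W W' f q => rfl)) (classifyTop J _)
    (fun V x y _ => classify_app_eq _ _ y
      (J.superset_covering (fun Z f _ => show someSieve u _ f from ⟨V, ⟨f⟩⟩) (J.top_mem _)))
  have : (limit G).obj (op W) :=
    ((limit.lift G (asEmptyCone (yoneda.obj W))).app (op W)) (𝟙 W)
  exact mem_of_classify_eq (fun W _ => someSieve u W) (fun W W' f q => rfl) key this

/-- The maps through which two maps to the image of `u` factor compatibly. -/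
def pairSieve {U₁ U₂ : D} {W : C} (g₁ : W ⟶ u.obj U₁) (g₂ : W ⟶ u.obj U₂) : Sieve W where
  arrows W' f := ∃ (V : D) (a₁ : V ⟶ U₁) (a₂ : V ⟶ U₂) (h : W' ⟶ u.obj V),
    h ≫ u.map a₁ = f ≫ g₁ ∧ h ≫ u.map a₂ = f ≫ g₂
  downward_closed := by
    rintro W₁ W₂ f ⟨V, a₁, a₂, h, e₁, e₂⟩ t
    exact ⟨V, a₁, a₂, t ≫ h, by rw [Category.assoc, e₁, Category.assoc],
      by rw [Category.assoc, e₂, Category.assoc]⟩

/-- Two maps to the image of `u` factor locally through a common one. -/
theorem pairSieve_mem [u.IsContinuous K J]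
    [PreservesFiniteLimits (u.sheafPullback (Type u) K J)] {U₁ U₂ : D} {W : C} (g₁ : W ⟶ u.obj U₁) (g₂ : W ⟶ u.obj U₂) :
    pairSieve u g₁ g₂ ∈ J W := by
  let F := pair (yoneda.obj U₁) (yoneda.obj U₂)
  let G := pair (yoneda.obj (u.obj U₁)) (yoneda.obj (u.obj U₂))
  let β : ∀ i, F.obj i ⟶ u.op ⋙ G.obj i := fun
    | ⟨WalkingPair.left⟩ => yonMap u U₁
    | ⟨WalkingPair.right⟩ => yonMap u U₂
  have : ∀ i, IsIso (comparison J K u (β i)) := fun
    | ⟨WalkingPair.left⟩ => isIso_comparison_yon U₁
    | ⟨WalkingPair.right⟩ => isIso_comparison_yon U₂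
  let S : ∀ ⦃W : C⦄, (limit G).obj (op W) → Sieve W := fun W q =>
    pairSieve u ((limit.π G ⟨WalkingPair.left⟩).app (op W) q) ((limit.π G ⟨WalkingPair.right⟩).app (op W) q)
  have hS : ∀ ⦃W W' : C⦄ (f : W' ⟶ W) (q : (limit G).obj (op W)),
      S ((limit G).map f.op q) = (S q).pullback f := fun W W' f q => by
    have el : ∀ i, (limit.π G i).app (op W') ((limit G).map f.op q) =
        (G.obj i).map f.op ((limit.π G i).app (op W) q) := fun i =>
      ConcreteCategory.congr_hom ((limit.π G i).naturality f.op) q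
    show pairSieve u _ _ = _
    rw [el, el]
    ext Z t
    constructor
    · rintro ⟨V, a₁, a₂, h, e₁, e₂⟩
      exact ⟨V, a₁, a₂, h, e₁.trans (Category.assoc _ _ _).symm, e₂.trans (Category.assoc _ _ _).symm⟩
    · rintro ⟨V, a₁, a₂, h, e₁, e₂⟩
      exact ⟨V, a₁, a₂, h, e₁.trans (Category.assoc _ _ _), e₂.trans (Category.assoc _ _ _)⟩
  have key := eq_of_limit (J := J) (K := K) β (by
      rintro ⟨i⟩ ⟨j⟩ ⟨⟨⟨⟩⟩⟩
      simp [F, G]) (limit.isLimit F) (limit.isLimit G) (closedSheaf J)
    (classify J S hS) (classifyTop J _) (fun V x y hy => by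
      refine classify_app_eq S hS y (J.superset_covering (fun Z f _ => ?_) (J.top_mem _))
      refine ⟨V, (limit.π F ⟨WalkingPair.left⟩).app (op V) x, (limit.π F ⟨WalkingPair.right⟩).app (op V) x, f,
        congrArg (fun t => f ≫ t) ?_, congrArg (fun t => f ≫ t) ?_⟩
      · exact ((hy ⟨WalkingPair.left⟩).trans (yonMap_app (u := u) (op V) _)).symm
      · exact ((hy ⟨WalkingPair.right⟩).trans (yonMap_app (u := u) (op V) _)).symm)
  let c : Cone G := BinaryFan.mk (yoneda.map g₁) (yoneda.map g₂)
  let q : (limit G).obj (op W) := (limit.lift G c).app (op W) (𝟙 W)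
  have eq : ∀ i, (limit.π G i).app (op W) q = (c.π.app i).app (op W) (𝟙 W) := fun i =>
    ConcreteCategory.congr_hom (NatTrans.congr_app (limit.lift_π c i) (op W)) (𝟙 W)
  have hm := mem_of_classify_eq S hS key q
  have e₁ : (limit.π G ⟨WalkingPair.left⟩).app (op W) q = g₁ :=
    (eq _).trans (Category.id_comp g₁)
  have e₂ : (limit.π G ⟨WalkingPair.right⟩).app (op W) q = g₂ :=
    (eq _).trans (Category.id_comp g₂)
  exact e₁ ▸ e₂ ▸ hm

/-- The maps through which a map equalising the images of two arrows factors through an equalising one. -/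
def eqSieve {U U' : D} (a b : U ⟶ U') {W : C} (g : W ⟶ u.obj U) : Sieve W where
  arrows W' f := ∃ (V : D) (c : V ⟶ U) (h : W' ⟶ u.obj V), c ≫ a = c ≫ b ∧ h ≫ u.map c = f ≫ g
  downward_closed := by
    rintro W₁ W₂ f ⟨V, c, h, e, e'⟩ t
    exact ⟨V, c, t ≫ h, e, by rw [Category.assoc, e', Category.assoc]⟩

/-- Maps equalising the images of two arrows factor locally through an equalising arrow. -/
theorem eqSieve_mem [u.IsContinuous K J]
    [PreservesFiniteLimits (u.sheafPullback (Type u) K J)] {U U' : D} (a b : U ⟶ U') {W : C} (g : W ⟶ u.obj U)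
    (hg : g ≫ u.map a = g ≫ u.map b) : eqSieve u a b g ∈ J W := by
  let F := parallelPair (yoneda.map a) (yoneda.map b)
  let G := parallelPair (yoneda.map (u.map a)) (yoneda.map (u.map b))
  let β : ∀ i, F.obj i ⟶ u.op ⋙ G.obj i := fun
    | WalkingParallelPair.zero => yonMap u U
    | WalkingParallelPair.one => yonMap u U'
  have : ∀ i, IsIso (comparison J K u (β i)) := fun
    | WalkingParallelPair.zero => isIso_comparison_yon U
    | WalkingParallelPair.one => isIso_comparison_yon U'
  let S : ∀ ⦃W : C⦄, (limit G).obj (op W) → Sieve W := fun W q =>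
    eqSieve u a b ((limit.π G WalkingParallelPair.zero).app (op W) q)
  have hS : ∀ ⦃W W' : C⦄ (f : W' ⟶ W) (q : (limit G).obj (op W)),
      S ((limit G).map f.op q) = (S q).pullback f := fun W W' f q => by
    have el : (limit.π G WalkingParallelPair.zero).app (op W') ((limit G).map f.op q) =
        f ≫ (limit.π G WalkingParallelPair.zero).app (op W) q :=
      ConcreteCategory.congr_hom ((limit.π G WalkingParallelPair.zero).naturality f.op) q
    show eqSieve u a b _ = _
    rw [el]
    ext Z t
    constructor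
    · rintro ⟨V, c, h, e, e'⟩
      exact ⟨V, c, h, e, e'.trans (Category.assoc _ _ _).symm⟩
    · rintro ⟨V, c, h, e, e'⟩
      exact ⟨V, c, h, e, e'.trans (Category.assoc _ _ _)⟩
  have key := eq_of_limit (J := J) (K := K) β (by
      rintro i j (_ | _ | _)
      · refine NatTrans.ext (funext fun V => ConcreteCategory.hom_ext _ _ fun x => ?_)
        exact (yonMap_app V _).trans ((u.map_comp x a).trans
          (congrArg (fun t => t ≫ u.map a) (yonMap_app (u := u) V x).symm))
      · refine NatTrans.ext (funext fun V => ConcreteCategory.hom_ext _ _ fun x => ?_)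
        exact (yonMap_app V _).trans ((u.map_comp x b).trans
          (congrArg (fun t => t ≫ u.map b) (yonMap_app (u := u) V x).symm))
      · simp [F, G]) (limit.isLimit F) (limit.isLimit G) (closedSheaf J)
    (classify J S hS) (classifyTop J _) (fun V x y hy => by
      refine classify_app_eq S hS y (J.superset_covering (fun Z f _ => ?_) (J.top_mem _))
      refine ⟨V, (limit.π F WalkingParallelPair.zero).app (op V) x, f, ?_, congrArg (fun t => f ≫ t) ?_⟩
      · exact ConcreteCategory.congr_hom (NatTrans.congr_app ((limit.w F WalkingParallelPairHom.left).trans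
          (limit.w F WalkingParallelPairHom.right).symm) (op V)) x
      · exact ((hy WalkingParallelPair.zero).trans (yonMap_app (u := u) (op V) _)).symm)
  let c : Cone G := Fork.ofι (yoneda.map g)
    (by rw [← Functor.map_comp, ← Functor.map_comp, hg])
  let q : (limit G).obj (op W) := (limit.lift G c).app (op W) (𝟙 W)
  have hm := mem_of_classify_eq S hS key q
  have e : (limit.π G WalkingParallelPair.zero).app (op W) q = g :=
    (ConcreteCategory.congr_hom (NatTrans.congr_app (limit.lift_π c WalkingParallelPair.zero) (op W))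
      (𝟙 W)).trans (Category.id_comp g)
  exact e ▸ hm

end Groth.Agent.ModPull
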