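import Groth.Agent.ModPull.Pure
import Groth.Agent.ModTensor.ProjSheaf
import Mathlib.CategoryTheory.Abelian.Refinements

/-!
# Inverse images of flat modules
-/

universe v w u

open CategoryTheory CategoryTheory.Limits Opposite MonoidalCategory
open Groth.Agent.ModTensor

namespace Groth.Agent.ModPull

section Abstract

variable {𝒜 : Type w} [Category.{v} 𝒜] [Abelian 𝒜]

/-- A quotient of a mono by a common kernel is a mono. -/
lemma mono_of_common_kernel {L P F X Y : 𝒜} (l : L ⟶ P) (j : P ⟶ X) [Epi j] (κ : P ⟶ F) [Mono κ]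
    (q : F ⟶ Y) (f : X ⟶ Y) (comm : j ≫ f = κ ≫ q) (w : (l ≫ κ) ≫ q = 0) (hlj : l ≫ j = 0)
    (hE : (ShortComplex.mk (l ≫ κ) q w).Exact) : Mono f := by
  refine Preadditive.mono_of_cancel_zero f fun {T} z hz => ?_
  obtain ⟨T', π₀, _, y, hy⟩ := surjective_up_to_refinements_of_epi j z
  obtain ⟨T'', π₁, _, x, hx⟩ := hE.exact_up_to_refinements (y ≫ κ) (by
    show (y ≫ κ) ≫ q = 0
    rw [Category.assoc, ← comm, ← Category.assoc, ← hy, Category.assoc, hz, comp_zero])
  have e : π₁ ≫ y = x ≫ l := (cancel_mono κ).1 (by simpa using hx)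
  have h0 : (π₁ ≫ π₀) ≫ z = 0 := by
    rw [Category.assoc, hy, ← Category.assoc, e, Category.assoc, hlj, comp_zero]
  exact (cancel_epi (π₁ ≫ π₀)).1 (h0.trans comp_zero.symm)

/-- The chase showing that a pure presentation by a flat object gives a flat quotient. -/
lemma mono_of_pure {AK AF AM BK BF BM QK QF : 𝒜} (aK : AK ⟶ AF) (qA : AF ⟶ AM) [Epi qA]
    (bK : BK ⟶ BF) (qB : BF ⟶ BM) (cK : QK ⟶ QF) [Mono cK]
    (gK : AK ⟶ BK) (gF : AF ⟶ BF) [Mono gF] (gM : AM ⟶ BM) (pK : BK ⟶ QK) (pF : BF ⟶ QF)
    (hA : aK ≫ qA = 0) (hK : gK ≫ pK = 0) (hF : gF ≫ pF = 0)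
    (s₁ : gK ≫ bK = aK ≫ gF) (s₂ : gF ≫ qB = qA ≫ gM) (s₃ : pK ≫ cK = bK ≫ pF)
    (hB : bK ≫ qB = 0) (eB : (ShortComplex.mk bK qB hB).Exact) (eK : (ShortComplex.mk gK pK hK).Exact) :
    Mono gM := by
  refine Preadditive.mono_of_cancel_zero gM fun {T} z hz => ?_
  obtain ⟨T', π₀, _, y, hy⟩ := surjective_up_to_refinements_of_epi qA z
  obtain ⟨T₁, π₁, _, x, hx⟩ := eB.exact_up_to_refinements (y ≫ gF) (by
    show (y ≫ gF) ≫ qB = 0
    rw [Category.assoc, s₂, ← Category.assoc, ← hy, Category.assoc, hz, comp_zero])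
  have hx' : π₁ ≫ y ≫ gF = x ≫ bK := hx
  obtain ⟨T₂, π₂, _, x', hx''⟩ := eK.exact_up_to_refinements x (by
    show x ≫ pK = 0
    refine (cancel_mono cK).1 ?_
    rw [Category.assoc, s₃, ← Category.assoc, ← hx', Category.assoc, Category.assoc, hF, comp_zero,
      comp_zero, zero_comp])
  have hx''' : π₂ ≫ x = x' ≫ gK := hx''
  have e : π₂ ≫ π₁ ≫ y = x' ≫ aK := by
    refine (cancel_mono gF).1 ?_
    simp only [Category.assoc]
    rw [hx', ← Category.assoc π₂, hx''', Category.assoc, s₁]
  have h0 : (π₂ ≫ π₁ ≫ π₀) ≫ z = 0 := by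
    rw [Category.assoc, Category.assoc, hy, ← Category.assoc π₁, ← Category.assoc π₂, e, Category.assoc, hA,
      comp_zero]
  exact (cancel_epi (π₂ ≫ π₁ ≫ π₀)).1 (h0.trans comp_zero.symm)

end Abstract

variable {C D : Type u} [SmallCategory C] [SmallCategory D] {J : GrothendieckTopology C}
  {K : GrothendieckTopology D} {O_C : Sheaf J CommRingCat.{u}} {O_D : Sheaf K CommRingCat.{u}}
  (f : ModSite.RMor O_C O_D)

/-- The inverse image of a presentation of a flat module by a free one stays injective after tensoring. -/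
theorem mono_tensor_pull {ι : Type u} {U : ι → D} {X₁ X₃ : ModSite.Mod O_D}
    (κ : X₁ ⟶ (sh O_D).obj (sigFree O_D U)) (π : (sh O_D).obj (sigFree O_D U) ⟶ X₃)
    (w : κ ≫ π = 0) (hS : (ShortComplex.mk κ π w).ShortExact) (hM : ModSite.IsFlat X₃)
    (A : ModSite.Mod O_C) : Mono (((ModSite.tensorBi O_C).obj A).map (f.pull.map κ)) := by
  let T := ((ModSite.tensorBi O_C).obj A).map (f.pull.map κ ≫ pullFreeHom f U)
  have hT : Mono T := by
    refine mono_of_app_eq_zero T fun W x hx => ?_
    refine eq_of_locally' _ ((locally_exists_shu (tPull f A X₁) x).bind fun W' g ⟨t, ht⟩ => ?_)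
    refine (locally_hasRep f t).mono fun W'' g' ⟨V, h, n, a, k, hrep⟩ => ?_
    have e : rs ((fg O_C).obj ((sh O_C).obj (tPull f A X₁))) (g' ≫ g).op x =
        shu (tPull f A X₁) (tRep f A X₁ h a k) :=
      (rs_comp (P := (fg O_C).obj ((sh O_C).obj (tPull f A X₁))) g.op g'.op x).trans
        ((congrArg (fun z => rs ((fg O_C).obj ((sh O_C).obj (tPull f A X₁))) g'.op z) ht.symm).trans
          ((rs_shu (tPull f A X₁) g'.op t).trans (congrArg (fun z => shu (tPull f A X₁) z) hrep)))
    refine e.trans ((shu_tRep_eq_zero f κ π w hS hM h a k ?_).trans (map_zero _).symm)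
    refine (congrArg (fun z => ((fg O_C).map T).app (op W'') z) e.symm).trans ?_
    exact (app_rs ((fg O_C).map T) (g' ≫ g).op x).trans
      ((congrArg (fun z => rs _ (g' ≫ g).op z) hx).trans
        (map_zero (((fg O_C).obj (((ModSite.tensorBi O_C).obj A).obj _)).map (g' ≫ g).op).hom))
  exact @mono_of_mono _ _ _ _ _ _ (((ModSite.tensorBi O_C).obj A).map (pullFreeHom f U))
    (by rw [← Functor.map_comp]; exact hT)

/-- The inverse image of such a presentation is injective. -/
theorem mono_pull {ι : Type u} {U : ι → D} {X₁ X₃ : ModSite.Mod O_D}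
    (κ : X₁ ⟶ (sh O_D).obj (sigFree O_D U)) (π : (sh O_D).obj (sigFree O_D U) ⟶ X₃)
    (w : κ ≫ π = 0) (hS : (ShortComplex.mk κ π w).ShortExact) (hM : ModSite.IsFlat X₃) :
    Mono (f.pull.map κ) :=
  ((MorphismProperty.monomorphisms _).arrow_mk_iso_iff
    (((Functor.mapArrowFunctor _ _).mapIso (unitTensorIso O_C)).app (Arrow.mk (f.pull.map κ)))).1
    (mono_tensor_pull f κ π w hS hM (ModSite.unit O_C))

instance preservesFiniteColimits_pull : PreservesFiniteColimits f.pull := by
  have : PreservesColimitsOfSize.{0, 0} f.pull := f.adj.leftAdjoint_preservesColimits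
  exact ⟨fun _ => inferInstance⟩

theorem additive_pull : f.pull.Additive := f.adj.left_adjoint_additive

/-- The inverse image of a short exact sequence with flat quotient is short exact. -/
theorem shortExact_pull [f.pull.PreservesZeroMorphisms] {S : ShortComplex (ModSite.Mod O_D)} (hS : S.ShortExact)
    (hM : ModSite.IsFlat S.X₃) : (S.map f.pull).ShortExact := by
  have := hS.mono_f
  have := hS.epi_g
  let q := coverHom S.X₂
  let π := q ≫ S.g
  let κ := kernel.ι π
  have hπ : (ShortComplex.mk κ π (kernel.condition π)).ShortExact :=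
    { exact := ShortComplex.exact_of_f_is_kernel _ (kernelIsKernel π) }
  have hmono : Mono (f.pull.map κ) := mono_pull f κ π (kernel.condition π) hπ hM
  let j : kernel π ⟶ S.X₁ := hS.exact.lift (κ ≫ q) (by rw [Category.assoc]; exact kernel.condition π)
  have hj : j ≫ S.f = κ ≫ q := hS.exact.lift_f _ _
  let l : kernel q ⟶ kernel π := kernel.lift π (kernel.ι q) (by
    show kernel.ι q ≫ q ≫ S.g = 0
    rw [kernel.condition_assoc, zero_comp])
  have hl : l ≫ κ = kernel.ι q := kernel.lift_ι _ _ _
  have hlj : l ≫ j = 0 := (cancel_mono S.f).1 (by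
    rw [Category.assoc, hj, ← Category.assoc, hl, kernel.condition, zero_comp])
  have hepi : Epi j := by
    rw [epi_iff_surjective_up_to_refinements]
    intro T z
    obtain ⟨T', π₀, h₀, y, hy⟩ := surjective_up_to_refinements_of_epi q (z ≫ S.f)
    refine ⟨T', π₀, h₀, kernel.lift π y ?_, (cancel_mono S.f).1 ?_⟩
    · show y ≫ q ≫ S.g = 0
      rw [← Category.assoc, ← hy, Category.assoc, Category.assoc, S.zero, comp_zero, comp_zero]
    · simp only [Category.assoc]
      refine hy.trans (Eq.trans ?_ (congrArg (fun t => kernel.lift π y _ ≫ t) hj).symm)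
      exact (kernel.lift_ι_assoc _ _ _ _).symm
  have : f.pull.PreservesEpimorphisms := Functor.preservesEpimorphisms_of_adjunction f.adj
  let S₀ := ShortComplex.mk (kernel.ι q) q (kernel.condition q)
  have hS₀ : S₀.Exact := ShortComplex.exact_of_f_is_kernel _ (kernelIsKernel q)
  have hE : (S₀.map f.pull).Exact := hS₀.map_of_epi_of_preservesCokernel f.pull inferInstance inferInstance
  have e0 : f.pull.map l ≫ f.pull.map κ = f.pull.map (kernel.ι q) := by rw [← Functor.map_comp, hl]
  have hw : (f.pull.map l ≫ f.pull.map κ) ≫ f.pull.map q = 0 := by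
    rw [e0, ← Functor.map_comp, kernel.condition, Functor.map_zero]
  have hf : Mono (f.pull.map S.f) :=
    mono_of_common_kernel (f.pull.map l) (f.pull.map j) (f.pull.map κ) (f.pull.map q) (f.pull.map S.f)
      (by rw [← Functor.map_comp, hj, Functor.map_comp]) hw (by rw [← Functor.map_comp, hlj, Functor.map_zero])
      ((ShortComplex.exact_iff_of_iso (ShortComplex.isoMk (S₁ := S₀.map f.pull)
        (S₂ := ShortComplex.mk (f.pull.map l ≫ f.pull.map κ) (f.pull.map q) hw) (Iso.refl _) (Iso.refl _) (Iso.refl _)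
        (by simp [e0]; rfl) (by simp; rfl))).1 hE)
  exact ShortComplex.ShortExact.mk' (hS.exact.map_of_epi_of_preservesCokernel f.pull inferInstance inferInstance)
    hf (f.pull.map_epi S.g)

/-- The inverse image of a flat module is flat. -/
theorem isFlat_pull {M : ModSite.Mod O_D} (hM : ModSite.IsFlat M) : ModSite.IsFlat (f.pull.obj M) := by
  refine (isFlat_iff_mono _).2 fun A B g hg => ?_
  have := additive_pull f
  let T := ModSite.tensorBi O_C
  let κ := kernel.ι (coverHom M)
  let π := coverHom M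
  have hπ : (ShortComplex.mk κ π (kernel.condition π)).ShortExact :=
    { exact := ShortComplex.exact_of_f_is_kernel _ (kernelIsKernel π) }
  have hp : (ShortComplex.mk κ π (kernel.condition π) |>.map f.pull).ShortExact := by
    have : f.pull.PreservesEpimorphisms := Functor.preservesEpimorphisms_of_adjunction f.adj
    exact ShortComplex.ShortExact.mk' (hπ.exact.map_of_epi_of_preservesCokernel f.pull inferInstance inferInstance)
      (mono_pull f κ π _ hπ hM) (f.pull.map_epi π)
  let κ' := f.pull.map κ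
  let π' := f.pull.map π
  have hEB : ∀ X, ((ShortComplex.mk κ π (kernel.condition π) |>.map f.pull).map (T.obj X)).Exact := fun X =>
    hp.exact.map_of_epi_of_preservesCokernel (T.obj X) hp.epi_g inferInstance
  let Sg := ShortComplex.mk g (cokernel.π g) (cokernel.condition g)
  have hSg : Sg.Exact := ShortComplex.exact_of_g_is_cokernel _ (cokernelIsCokernel g)
  have hEK : (Sg.map (T.flip.obj (f.pull.obj (kernel π)))).Exact :=
    hSg.map_of_epi_of_preservesCokernel _ inferInstance inferInstance
  have hF : ModSite.IsFlat (f.pull.obj ((sh O_D).obj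
      (sigFree O_D fun p : (Σ U : D, ((fg O_D).obj M).obj (op U)) => p.1))) :=
    isFlat_of_iso (pullFreeIso f _).symm (isFlat_sh_free (sigYon _))
  have hgF : Mono ((T.map g).app (f.pull.obj ((sh O_D).obj
      (sigFree O_D fun p : (Σ U : D, ((fg O_D).obj M).obj (op U)) => p.1)))) := (isFlat_iff_mono _).1 hF g hg
  have hcK : Mono ((T.obj (cokernel g)).map κ') := mono_tensor_pull f κ π _ hπ hM (cokernel g)
  have : Epi π' := hp.epi_g
  have : Epi ((T.obj A).map π') := Functor.map_epi _ _
  have hκπ : κ' ≫ π' = 0 := by rw [← Functor.map_comp, kernel.condition, Functor.map_zero]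
  exact mono_of_pure (AK := (T.obj A).obj _) ((T.obj A).map κ') ((T.obj A).map π') ((T.obj B).map κ')
    ((T.obj B).map π') ((T.obj (cokernel g)).map κ')
    ((T.map g).app _) ((T.map g).app _) ((T.map g).app (f.pull.obj M))
    ((T.map (cokernel.π g)).app _) ((T.map (cokernel.π g)).app _)
    (by rw [← Functor.map_comp, hκπ, Functor.map_zero])
    ((Sg.map (T.flip.obj (f.pull.obj (kernel π)))).zero)
    (((Sg.map (T.flip.obj (f.pull.obj _)))).zero)
    ((T.map g).naturality κ').symm ((T.map g).naturality π').symm ((T.map (cokernel.π g)).naturality κ').symm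
    (((ShortComplex.mk κ π (kernel.condition π) |>.map f.pull).map (T.obj B)).zero) (hEB B) hEK

end Groth.Agent.ModPull
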