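import Mathlib.CategoryTheory.Sites.Pullback
import Mathlib.CategoryTheory.Sites.Closed
import Mathlib.CategoryTheory.Sites.Limits
import Mathlib.CategoryTheory.Sites.LeftExact
import Mathlib.CategoryTheory.Limits.Types.Limits
import Mathlib.CategoryTheory.Limits.FunctorCategory.Finite

/-!
# Local filteredness of a continuous functor with exact pullback
-/

universe u

open CategoryTheory CategoryTheory.Limits Opposite

namespace Groth.Agent.ModPull

variable {C D : Type u} [SmallCategory C] [SmallCategory D] (J : GrothendieckTopology C)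
  (K : GrothendieckTopology D) (u : D ⥤ C) [u.IsContinuous K J]

/-- The adjunction between the associated sheaf of the pullback and the restriction along `u`. -/
noncomputable def pullAdj :
    presheafToSheaf K (Type u) ⋙ u.sheafPullback (Type u) K J ⊣
      u.sheafPushforwardContinuous (Type u) K J ⋙ sheafToPresheaf K (Type u) :=
  (sheafificationAdjunction K (Type u)).comp (u.sheafAdjunctionContinuous (Type u) K J)

/-- The map induced on associated sheaves by a map of presheaves over `u`. -/
noncomputable def comparison {P : Dᵒᵖ ⥤ Type u} {Q : Cᵒᵖ ⥤ Type u} (β : P ⟶ u.op ⋙ Q) :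
    (u.sheafPullback (Type u) K J).obj ((presheafToSheaf K (Type u)).obj P) ⟶
      (presheafToSheaf J (Type u)).obj Q :=
  ((pullAdj J K u).homEquiv P
    ((presheafToSheaf J (Type u)).obj Q)).symm
      (β ≫ Functor.whiskerLeft u.op (toSheafify J Q))

variable {J K u}

lemma comparison_homEquiv {P : Dᵒᵖ ⥤ Type u} {Q : Cᵒᵖ ⥤ Type u} (β : P ⟶ u.op ⋙ Q)
    {N : Sheaf J (Type u)} (k : (presheafToSheaf J (Type u)).obj Q ⟶ N) :
    (pullAdj J K u).homEquiv P N
        (comparison J K u β ≫ k) =
      β ≫ Functor.whiskerLeft u.op ((sheafificationAdjunction J (Type u)).homEquiv Q N k) := by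
  refine ((pullAdj J K u).homEquiv_naturality_right _ k).trans ?_
  rw [comparison, Equiv.apply_symm_apply]
  refine (Category.assoc _ _ _).trans (congrArg (fun t => β ≫ t) ?_)
  refine Eq.trans ?_ (congrArg (fun t => Functor.whiskerLeft u.op t)
    (Adjunction.homEquiv_unit (sheafificationAdjunction J (Type u)) Q N k).symm)
  exact (Functor.whiskerLeft_comp u.op _ _).symm

lemma comparison_naturality {P P' : Dᵒᵖ ⥤ Type u} {Q Q' : Cᵒᵖ ⥤ Type u} (β : P ⟶ u.op ⋙ Q)
    (β' : P' ⟶ u.op ⋙ Q') (a : P ⟶ P') (b : Q ⟶ Q') (h : a ≫ β' = β ≫ Functor.whiskerLeft u.op b) :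
    (u.sheafPullback (Type u) K J).map ((presheafToSheaf K (Type u)).map a) ≫ comparison J K u β' =
      comparison J K u β ≫ (presheafToSheaf J (Type u)).map b := by
  refine ((pullAdj J K u).homEquiv P _).injective ?_
  refine Eq.trans ?_ (comparison_homEquiv β ((presheafToSheaf J (Type u)).map b)).symm
  refine ((pullAdj J K u).homEquiv_naturality_left a (comparison J K u β')).trans ?_
  refine (congrArg (fun t => a ≫ t) ((congrArg (fun t => (pullAdj J K u).homEquiv P' _ t) (Category.comp_id (comparison J K u β')).symm).trans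
    (comparison_homEquiv β' (𝟙 _)))).trans ?_
  refine ((Category.assoc _ _ _).symm.trans (congrArg (fun t => t ≫ Functor.whiskerLeft u.op
    ((sheafificationAdjunction J (Type u)).homEquiv Q' _ (𝟙 _))) h)).trans ?_
  refine (Category.assoc _ _ _).trans (congrArg (fun t => β ≫ t) ?_)
  refine (Functor.whiskerLeft_comp u.op _ _).symm.trans (congrArg (fun t => Functor.whiskerLeft u.op t) ?_)
  rw [← Adjunction.homEquiv_naturality_left, Category.comp_id]

/-- The canonical map on representables. -/
def yonMap (u : D ⥤ C) (U : D) : yoneda.obj U ⟶ u.op ⋙ yoneda.obj (u.obj U) :=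
  yonedaEquiv.symm (𝟙 (u.obj U))

lemma yonMap_app {U : D} (V : Dᵒᵖ) (a : (yoneda.obj U).obj V) :
    (yonMap u U).app V a = u.map a := by
  show u.map a ≫ 𝟙 _ = u.map a
  rw [Category.comp_id]

instance isIso_comparison_yon (U : D) : IsIso (comparison J K u (yonMap u U)) := by
  refine (isIso_iff_coyoneda_map_bijective _).2 fun N => ?_
  let e₁ := ((sheafificationAdjunction J (Type u)).homEquiv (yoneda.obj (u.obj U)) N).trans yonedaEquiv
  let e₂ := ((pullAdj J K u).homEquiv (yoneda.obj U) N).trans yonedaEquiv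
  have h : (fun k => comparison J K u (yonMap u U) ≫ k) = e₂.symm ∘ e₁ := funext fun k => e₂.injective (by
    refine Eq.trans ?_ (e₂.apply_symm_apply _).symm
    refine (congrArg (fun t => yonedaEquiv t) (comparison_homEquiv (yonMap u U) k)).trans ?_
    refine congrArg (fun z => ((sheafificationAdjunction J (Type u)).homEquiv _ N k).app (op (u.obj U)) z) ?_
    exact (yonMap_app (u := u) (op U) (𝟙 U)).trans (u.map_id U))
  rw [h]
  exact e₂.symm.bijective.comp e₁.bijective

variable [PreservesFiniteLimits (u.sheafPullback (Type u) K J)]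

section

variable {I : Type} [SmallCategory I] [FinCategory I] {F : I ⥤ Dᵒᵖ ⥤ Type u} {G : I ⥤ Cᵒᵖ ⥤ Type u}

theorem isIso_comparison_limit (β : ∀ i, F.obj i ⟶ u.op ⋙ G.obj i)
    (nat : ∀ ⦃i j⦄ (f : i ⟶ j), F.map f ≫ β j = β i ≫ Functor.whiskerLeft u.op (G.map f))
    [∀ i, IsIso (comparison J K u (β i))] {cF : Cone F} (hF : IsLimit cF) {cG : Cone G} (hG : IsLimit cG)
    (β₀ : cF.pt ⟶ u.op ⋙ cG.pt)
    (h₀ : ∀ i, cF.π.app i ≫ β i = β₀ ≫ Functor.whiskerLeft u.op (cG.π.app i)) :
    IsIso (comparison J K u β₀) := by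
  let θ : F ⋙ presheafToSheaf K (Type u) ⋙ u.sheafPullback (Type u) K J ≅
      G ⋙ presheafToSheaf J (Type u) :=
    NatIso.ofComponents (fun i => asIso (comparison J K u (β i)))
      (fun f => comparison_naturality _ _ _ _ (nat f))
  let hF' := isLimitOfPreserves (presheafToSheaf K (Type u) ⋙ u.sheafPullback (Type u) K J) hF
  let hG' := isLimitOfPreserves (presheafToSheaf J (Type u)) hG
  have e : comparison J K u β₀ = (IsLimit.conePointsIsoOfNatIso hF' hG' θ).hom :=
    hG'.hom_ext fun i => by
      rw [IsLimit.conePointsIsoOfNatIso_hom_comp]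
      exact (comparison_naturality _ _ _ _ (h₀ i)).symm
  rw [e]
  infer_instance

/-- Two maps from a finite limit into a sheaf agree as soon as they agree along `u`. -/
theorem eq_of_limit (β : ∀ i, F.obj i ⟶ u.op ⋙ G.obj i)
    (nat : ∀ ⦃i j⦄ (f : i ⟶ j), F.map f ≫ β j = β i ≫ Functor.whiskerLeft u.op (G.map f))
    [∀ i, IsIso (comparison J K u (β i))] {cF : Cone F} (hF : IsLimit cF) {cG : Cone G} (hG : IsLimit cG)
    (N : Sheaf J (Type u)) (k₁ k₂ : cG.pt ⟶ N.obj)
    (hk : ∀ (V : D) (x : cF.pt.obj (op V)) (y : cG.pt.obj (op (u.obj V))),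
      (∀ i, (cG.π.app i).app (op (u.obj V)) y = (β i).app (op V) ((cF.π.app i).app (op V) x)) →
      k₁.app (op (u.obj V)) y = k₂.app (op (u.obj V)) y) :
    k₁ = k₂ := by
  let hw := isLimitOfPreserves ((Functor.whiskeringLeft _ _ (Type u)).obj u.op) hG
  let c' : Cone (G ⋙ (Functor.whiskeringLeft _ _ (Type u)).obj u.op) :=
    { pt := cF.pt
      π := { app := fun i => cF.π.app i ≫ β i
             naturality := fun i j f => by
              show 𝟙 _ ≫ cF.π.app j ≫ β j = (cF.π.app i ≫ β i) ≫ Functor.whiskerLeft u.op (G.map f)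
              rw [Category.id_comp, Category.assoc, ← nat f, ← cF.w f, Category.assoc] } }
  let β₀ : cF.pt ⟶ u.op ⋙ cG.pt := hw.lift c'
  have h₀ : ∀ i, cF.π.app i ≫ β i = β₀ ≫ Functor.whiskerLeft u.op (cG.π.app i) :=
    fun i => (hw.fac c' i).symm
  have : IsIso (comparison J K u β₀) := isIso_comparison_limit (J := J) (K := K) β nat hF hG β₀ h₀
  refine ((sheafificationAdjunction J (Type u)).homEquiv cG.pt N).symm.injective ?_
  refine (cancel_epi (comparison J K u β₀)).1 ?_
  refine ((pullAdj J K u).homEquiv cF.pt N).injective ?_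
  rw [comparison_homEquiv, comparison_homEquiv, Equiv.apply_symm_apply, Equiv.apply_symm_apply]
  refine NatTrans.ext (funext fun V => ConcreteCategory.hom_ext _ _ fun x => ?_)
  exact hk V.unop x (β₀.app V x) fun i => (ConcreteCategory.congr_hom (NatTrans.congr_app (h₀ i) V) x).symm

end

/-- The sheaf of closed sieves. -/
noncomputable def closedSheaf (J : GrothendieckTopology C) : Sheaf J (Type u) :=
  ⟨(Functor.closedSieves J).toFunctor, (isSheaf_iff_isSheaf_of_type _ _).2 (classifier_isSheaf J)⟩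

variable (J) in
/-- The classifying map of a natural family of sieves. -/
noncomputable def classify {Q : Cᵒᵖ ⥤ Type u} (S : ∀ ⦃W : C⦄, Q.obj (op W) → Sieve W)
    (hS : ∀ ⦃W W' : C⦄ (f : W' ⟶ W) (q : Q.obj (op W)), S (Q.map f.op q) = (S q).pullback f) :
    Q ⟶ (closedSheaf J).obj where
  app W := TypeCat.ofHom fun q => ⟨J.close (S (W := W.unop) q), J.close_isClosed _⟩
  naturality {W W'} f := by
    refine ConcreteCategory.hom_ext _ _ fun q => Subtype.ext ?_
    show J.close (S (Q.map f q)) = (J.close (S (W := W.unop) q)).pullback f.unop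
    rw [← GrothendieckTopology.pullback_close]
    exact congrArg J.close (hS f.unop q)

variable (J) in
/-- The map classifying the maximal sieve. -/
noncomputable def classifyTop (Q : Cᵒᵖ ⥤ Type u) : Q ⟶ (closedSheaf J).obj :=
  classify J (fun _ _ => ⊤) (fun _ _ _ _ => Sieve.pullback_top.symm)

theorem mem_of_classify_eq {Q : Cᵒᵖ ⥤ Type u} (S : ∀ ⦃W : C⦄, Q.obj (op W) → Sieve W)
    (hS : ∀ ⦃W W' : C⦄ (f : W' ⟶ W) (q : Q.obj (op W)), S (Q.map f.op q) = (S q).pullback f)
    (h : classify J S hS = classifyTop J Q) {W : C} (q : Q.obj (op W)) : S q ∈ J W := by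
  have := congrArg Subtype.val (ConcreteCategory.congr_hom (NatTrans.congr_app h (op W)) q)
  exact (J.close_eq_top_iff_mem _).1 (this.trans ((J.close_eq_top_iff_mem _).2 (J.top_mem W)))

theorem classify_app_eq {Q : Cᵒᵖ ⥤ Type u} (S : ∀ ⦃W : C⦄, Q.obj (op W) → Sieve W)
    (hS : ∀ ⦃W W' : C⦄ (f : W' ⟶ W) (q : Q.obj (op W)), S (Q.map f.op q) = (S q).pullback f)
    {W : C} (q : Q.obj (op W)) (h : S q ∈ J W) :
    (classify J S hS).app (op W) q = (classifyTop J Q).app (op W) q :=
  Subtype.ext (((J.close_eq_top_iff_mem _).2 h).trans ((J.close_eq_top_iff_mem _).2 (J.top_mem W)).symm)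

end Groth.Agent.ModPull
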