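import Groth.Agent.ModPull.FlatPull
import Groth.Agent.ModTensor.KFlat
import Mathlib.Algebra.Homology.HomotopyCategory.Acyclic

/-!
# Inverse images of K-flat complexes of flat modules
-/

set_option linter.style.haveILetI false

universe u

open CategoryTheory CategoryTheory.Limits Opposite
open Groth.Agent.ModTensor

namespace Groth.Agent.ModPull

variable {C D : Type u} [SmallCategory C] [SmallCategory D] {J : GrothendieckTopology C}
  {K : GrothendieckTopology D} {O_C : Sheaf J CommRingCat.{u}} {O_D : Sheaf K CommRingCat.{u}}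
  (f : ModSite.RMor O_C O_D)

theorem isKFlat_zeroCx (A : ℤ → ModSite.Mod O_C) (h : ∀ j, ModSite.IsFlat (A j)) :
    ModSite.IsKFlat (KFlatLib.zeroCx A) :=
  kFlat_iff_isKFlat.1 (KFlatLib.kFlat_zeroCx A fun j => (isFlat_iff_flatObj _).1 (h j))

/-- The cone of a quasi-isomorphism is acyclic. -/
theorem acyclic_cone {F G : CochainComplex (ModSite.Mod O_D) ℤ} (φ : F ⟶ G) [h : QuasiIso φ] :
    (CochainComplex.mappingCone φ).Acyclic := by
  rw [← HomotopyCategory.quotient_obj_mem_subcategoryAcyclic_iff_acyclic]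
  refine ((HomotopyCategory.subcategoryAcyclic _).trW_iff_of_distinguished _
    (HomotopyCategory.mappingCone_triangleh_distinguished φ)).1 ?_
  rw [← HomotopyCategory.quasiIso_eq_trW_subcategoryAcyclic]
  exact (HomotopyCategory.quotient_map_mem_quasiIso_iff φ).2 h

theorem isKFlat_of_isColimit' {X : ℕ ⥤ CochainComplex (ModSite.Mod O_C) ℤ} {c : Cocone X} (hc : IsColimit c)
    (h : ∀ k, ModSite.IsKFlat (X.obj k)) : ModSite.IsKFlat c.pt :=
  kFlat_iff_isKFlat.1 (KFlatLib.kFlat_of_isColimit hc fun k => kFlat_iff_isKFlat.2 (h k))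

variable [f.pull.Additive]

/-- The termwise inverse image. -/
noncomputable abbrev pullCx :
    CochainComplex (ModSite.Mod O_D) ℤ ⥤ CochainComplex (ModSite.Mod O_C) ℤ :=
  f.pull.mapHomologicalComplex (ComplexShape.up ℤ)

/-- Inverse images of complexes with zero differential. -/
noncomputable def pullZeroCxIso (A : ℤ → ModSite.Mod O_D) :
    (pullCx f).obj (KFlatLib.zeroCx A) ≅ KFlatLib.zeroCx fun j => f.pull.obj (A j) :=
  HomologicalComplex.Hom.isoOfComponents (fun _ => Iso.refl _)
    (fun i j _ => by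
      show 𝟙 _ ≫ (0 : f.pull.obj (A i) ⟶ f.pull.obj (A j)) = f.pull.map 0 ≫ 𝟙 _
      rw [Functor.map_zero, comp_zero, zero_comp])

theorem isKFlat_pull_zeroCx (A : ℤ → ModSite.Mod O_D) (h : ∀ j, ModSite.IsFlat (A j)) :
    ModSite.IsKFlat ((pullCx f).obj (KFlatLib.zeroCx A)) :=
  kFlat_iff_isKFlat.1 (KFlatLib.KFlat.of_iso (pullZeroCxIso f A).symm
    (kFlat_iff_isKFlat.2 (isKFlat_zeroCx _ fun j => isFlat_pull f (h j))))

theorem isKFlat_pull_cone {F G : CochainComplex (ModSite.Mod O_D) ℤ} (φ : F ⟶ G)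
    (hF : ModSite.IsKFlat ((pullCx f).obj F)) (hG : ModSite.IsKFlat ((pullCx f).obj G)) :
    ModSite.IsKFlat ((pullCx f).obj (CochainComplex.mappingCone φ)) :=
  kFlat_iff_isKFlat.1 (KFlatLib.KFlat.of_iso (CochainComplex.mappingCone.mapHomologicalComplexIso φ f.pull).symm
    (kFlat_iff_isKFlat.2 ((isKFlat_mappingCone_two_out_of_three ((pullCx f).map φ)).1 hF hG)))

theorem preservesColimitsOfShape_nat_pullCx : PreservesColimitsOfShape ℕ (pullCx f) := by
  haveI : PreservesColimitsOfSize.{0, 0} f.pull := f.adj.leftAdjoint_preservesColimits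
  haveI : PreservesColimitsOfShape ℕ f.pull := inferInstance
  exact ⟨fun {F} => ⟨fun {c} hc =>
    ⟨HomologicalComplex.isColimitOfEval _ _ fun n =>
      IsColimit.ofIsoColimit (isColimitOfPreserves (HomologicalComplex.eval _ _ n ⋙ f.pull) hc)
        (Cocone.ext (Iso.refl _))⟩⟩⟩

theorem isKFlat_pull_pt {X : ℕ ⥤ CochainComplex (ModSite.Mod O_D) ℤ} {cc : Cocone X} (hcc : IsColimit cc)
    (h : ∀ k, ModSite.IsKFlat ((pullCx f).obj (X.obj k))) : ModSite.IsKFlat ((pullCx f).obj cc.pt) := by
  haveI := preservesColimitsOfShape_nat_pullCx f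
  exact isKFlat_of_isColimit' (X := X ⋙ pullCx f) (c := (pullCx f).mapCocone cc) (isColimitOfPreserves (pullCx f) hcc) h

section Resolution

variable (c : KFlatLib.FlatCover (ModSite.Mod O_D)) (hc : ∀ X, c.Flat X → ModSite.IsFlat X)

include hc in
theorem isKFlat_pull_stepQ {Q L : CochainComplex (ModSite.Mod O_D) ℤ} (a : Q ⟶ L)
    (h : ModSite.IsKFlat ((pullCx f).obj Q)) :
    ModSite.IsKFlat ((pullCx f).obj (KFlatLib.stepQ c.π a)) :=
  isKFlat_pull_cone f (KFlatLib.genMap c.π a) (isKFlat_pull_zeroCx f _ fun j => hc _ (c.flat _)) h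

include hc in
theorem isKFlat_pull_stage (L : CochainComplex (ModSite.Mod O_D) ℤ) (k : ℕ) :
    ModSite.IsKFlat ((pullCx f).obj ((c.stage k).Q.obj L)) := by
  induction k with
  | zero =>
    exact isKFlat_pull_cone f (𝟙 (KFlatLib.zeroCx (c.A₀ L))) (isKFlat_pull_zeroCx f _ fun j => hc _ (c.flat _))
      (isKFlat_pull_zeroCx f _ fun j => hc _ (c.flat _))
  | succ k ih => exact isKFlat_pull_stepQ f c hc ((c.stage k).f.app L) ih

include hc in
theorem isKFlat_pull_P (L : CochainComplex (ModSite.Mod O_D) ℤ) :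
    ModSite.IsKFlat ((pullCx f).obj (c.coconeAt L).pt) := by
  exact isKFlat_pull_pt f (c.isColimitCoconeAt L) (fun k => isKFlat_pull_stage f c hc L k)

end Resolution

/-- The inverse image of the canonical flat resolution is K-flat. -/
theorem isKFlat_pull_resolution (L : CochainComplex (ModSite.Mod O_D) ℤ) :
    ModSite.IsKFlat ((pullCx f).obj ((flatCover O_D).P.obj L)) := by
  have h := isKFlat_pull_P f (flatCover O_D) (fun _ h => h) L
  exact h

/-- The cycles as a subcomplex with zero differential. -/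
noncomputable def cyclesIncl (Q : CochainComplex (ModSite.Mod O_D) ℤ) :
    KFlatLib.zeroCx (fun n => Q.cycles n) ⟶ Q :=
  KFlatLib.zeroCxDesc (fun n => Q.iCycles n) fun n => Q.iCycles_d n (n + 1)

/-- The differential as a map to the cycles. -/
noncomputable def cyclesProj (Q : CochainComplex (ModSite.Mod O_D) ℤ) :
    Q ⟶ KFlatLib.zeroCx (fun n => Q.cycles (n + 1)) where
  f n := Q.toCycles n (n + 1)
  comm' n m hnm := by
    obtain rfl : n + 1 = m := hnm
    show Q.toCycles n (n + 1) ≫ 0 = Q.d n (n + 1) ≫ Q.toCycles (n + 1) (n + 1 + 1)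
    rw [comp_zero, HomologicalComplex.d_toCycles]

/-- The sequence of an acyclic complex and its cycles. -/
noncomputable def cyclesSeq (Q : CochainComplex (ModSite.Mod O_D) ℤ) :
    ShortComplex (CochainComplex (ModSite.Mod O_D) ℤ) :=
  ShortComplex.mk (cyclesIncl Q) (cyclesProj Q) (by
    refine HomologicalComplex.hom_ext _ _ fun n => (cancel_mono (Q.iCycles (n + 1))).1 ?_
    show (Q.iCycles n ≫ Q.toCycles n (n + 1)) ≫ Q.iCycles (n + 1) = (0 : Q.cycles n ⟶ Q.cycles (n + 1)) ≫ _
    rw [Category.assoc, HomologicalComplex.toCycles_i, HomologicalComplex.iCycles_d, zero_comp])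

theorem shortExact_cyclesSeq (Q : CochainComplex (ModSite.Mod O_D) ℤ) (hQ : Q.Acyclic) (n : ℤ) :
    ((cyclesSeq Q).map (HomologicalComplex.eval _ (ComplexShape.up ℤ) n)).ShortExact := by
  haveI : Mono ((cyclesSeq Q).map (HomologicalComplex.eval _ (ComplexShape.up ℤ) n)).f :=
    inferInstanceAs (Mono (Q.iCycles n))
  haveI : Epi ((cyclesSeq Q).map (HomologicalComplex.eval _ (ComplexShape.up ℤ) n)).g := by
    show Epi (Q.toCycles n (n + 1))
    refine Preadditive.epi_of_cancel_zero _ fun {T} g hg => ?_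
    have hc := Q.homologyIsCokernel n (n + 1) (by simp)
    obtain ⟨t, ht⟩ := CokernelCofork.IsColimit.desc' hc g hg
    rw [← ht]
    show Q.homologyπ (n + 1) ≫ t = 0
    rw [((hQ (n + 1)).isZero_homology).eq_of_src t 0, comp_zero]
  refine ShortComplex.ShortExact.mk' (ShortComplex.exact_of_f_is_kernel _ ?_) inferInstance inferInstance
  refine KernelFork.IsLimit.ofι' _ _ fun {T} g hg => ⟨Q.liftCycles g (n + 1) (by simp) ?_,
    HomologicalComplex.liftCycles_i _ _ _ _ _⟩
  have h' : g ≫ Q.toCycles n (n + 1) = 0 := hg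
  rw [← Q.toCycles_i n (n + 1)]
  exact (Category.assoc _ _ _).symm.trans ((congrArg (fun t => t ≫ Q.iCycles (n + 1)) h').trans zero_comp)

/-- The inverse image of an acyclic K-flat complex of flat modules is K-flat. -/
theorem isKFlat_pull_of_acyclic {Q : CochainComplex (ModSite.Mod O_D) ℤ} (hac : Q.Acyclic)
    (hQ : ModSite.IsKFlat Q) (hfl : ∀ n, ModSite.IsFlat (Q.X n)) :
    ModSite.IsKFlat ((pullCx f).obj Q) := by
  have hc := isFlat_cycles hac hQ hfl
  have hS : ((cyclesSeq Q).map (pullCx f)).ShortExact :=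
    HomologicalComplex.shortExact_of_degreewise_shortExact _ fun n =>
      shortExact_pull f (shortExact_cyclesSeq Q hac n) (hc (n + 1))
  exact (isKFlat_two_out_of_three _ hS fun n => isFlat_pull f (hc (n + 1))).2.1
    (isKFlat_pull_zeroCx f _ hc) (isKFlat_pull_zeroCx f _ fun n => hc (n + 1))

/-- The inverse image of a K-flat complex of flat modules is K-flat. -/
theorem isKFlat_pull {L : CochainComplex (ModSite.Mod O_D) ℤ} (hL : ModSite.IsKFlat L)
    (hfl : ∀ n, ModSite.IsFlat (L.X n)) : ModSite.IsKFlat ((pullCx f).obj L) := by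
  let P := (flatCover O_D).P.obj L
  let ψ := (flatCover O_D).ψ.app L
  haveI : QuasiIso ψ := (flatCover O_D).quasiIso_ψ L
  have hP : ModSite.IsKFlat P := kFlat_iff_isKFlat.1 ((flatCover O_D).kFlat_P flatObj_flatCover L)
  have hQ := (isKFlat_mappingCone_two_out_of_three ψ).1 hP hL
  have hQf : ∀ n, ModSite.IsFlat ((CochainComplex.mappingCone ψ).X n) := fun n =>
    isFlat_of_iso (KFlatLib.mappingConeXBiprod ψ n).symm
      (isFlat_biprod O_D _ _ ((flatCover O_D).flat_P L (n + 1)) (hfl n))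
  have hac : (CochainComplex.mappingCone ψ).Acyclic := acyclic_cone ψ
  have hpQ : ModSite.IsKFlat (CochainComplex.mappingCone ((pullCx f).map ψ)) :=
    kFlat_iff_isKFlat.1 (KFlatLib.KFlat.of_iso (CochainComplex.mappingCone.mapHomologicalComplexIso ψ f.pull)
      (kFlat_iff_isKFlat.2 (isKFlat_pull_of_acyclic f hac hQ hQf)))
  exact (isKFlat_mappingCone_two_out_of_three ((pullCx f).map ψ)).2.1 (isKFlat_pull_resolution f L) hpQ

end Groth.Agent.ModPull
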