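import Groth.Agent.ModPull.Rep

/-!
# Inverse images preserve purity of presentations of flat modules
-/

universe u

open CategoryTheory CategoryTheory.Limits Opposite MonoidalCategory
open Groth.Agent.ModTensor
open scoped TensorProduct

namespace Groth.Agent.ModPull

variable {C D : Type u} [SmallCategory C] [SmallCategory D] {J : GrothendieckTopology C}
  {K : GrothendieckTopology D} {O_C : Sheaf J CommRingCat.{u}} {O_D : Sheaf K CommRingCat.{u}}
  (f : ModSite.RMor O_C O_D)

lemma locally_lift {V : D} {P : ∀ ⦃V' : D⦄, (V' ⟶ V) → Prop} (hP : Locally K V P) {W : C}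
    (h : W ⟶ f.fn.obj V) :
    Locally J W (fun W' g => ∃ (V' : D) (c : V' ⟶ V) (h' : W' ⟶ f.fn.obj V'),
      P c ∧ h' ≫ f.fn.map c = g ≫ h) := by
  obtain ⟨S, hS, hPS⟩ := hP
  exact ⟨_, imgSieve_mem (J := J) f.fn hS h, fun W' g ⟨V', c, h', hc, e⟩ => ⟨V', c, h', hPS c hc, e⟩⟩

lemma pu_sum (M : ModSite.Mod O_D) {U : Dᵒᵖ} {κ : Type*} (s : Finset κ) (x : κ → ((fg O_D).obj M).obj U) :
    pu f M (∑ i ∈ s, x i) = ∑ i ∈ s, pu f M (x i) :=
  map_sum (((fg O_D).map (f.adj.unit.app M)).app U).hom x s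

lemma shp_sum {U : Dᵒᵖ} {κ : Type*} (s : Finset κ) (x : κ → O_D.obj.obj U) :
    shp f (∑ i ∈ s, x i) = ∑ i ∈ s, shp f (x i) := map_sum (f.sharp.hom.app U).hom x s

/-- Finitely many sections of a free module involve finitely many basis sections. -/
lemma exists_common_basis {E : Type u} [SmallCategory E] {L : GrothendieckTopology E}
    {O : Sheaf L CommRingCat.{u}} {ι : Type u} (U : ι → E) {X : Eᵒᵖ} {σ : Type} [Fintype σ]
    (φ : σ → (sigFree O U).obj X) :
    ∃ (Y : Type) (_ : Fintype Y) (i : Y → ι) (a : ∀ y, X.unop ⟶ U (i y)) (c : σ → Y → O.obj.obj X),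
      ∀ l, φ l = ∑ y, c l y • bs U (i y) (a y) := by
  classical
  have h1 : ∀ p : (sigFree O U).obj X, ∃ (n : ℕ) (i : Fin n → ι) (a : ∀ j, X.unop ⟶ U (i j))
      (c : Fin n → O.obj.obj X), p = ∑ j, c j • bs U (i j) (a j) := by
    intro p
    induction p using sigFree_induction with
    | zero =>
      exact ⟨0, fun j => j.elim0, fun j => j.elim0, fun j => j.elim0,
        (Finset.sum_eq_zero fun j _ => j.elim0).symm⟩
    | smul c i a => exact ⟨1, fun _ => i, fun _ => a, fun _ => c, (Fin.sum_univ_one (fun _ => c • bs U i a)).symm⟩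
    | add p q hp hq =>
      obtain ⟨n, i, a, c, rfl⟩ := hp
      obtain ⟨n', i', a', c', rfl⟩ := hq
      let w : Fin (n + n') → Σ i : ι, (X.unop ⟶ U i) :=
        Fin.append (fun j => ⟨i j, a j⟩) (fun j => ⟨i' j, a' j⟩)
      refine ⟨n + n', fun j => (w j).1, fun j => (w j).2, Fin.append c c', ?_⟩
      refine Eq.symm ((Fin.sum_univ_add _).trans ?_)
      simp only [w, Fin.append_left, Fin.append_right]
      congr 1 <;> refine Finset.sum_congr rfl fun j _ => ?_
      all_goals congr 1
      all_goals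
        first
          | exact congrArg (fun x : (Σ i : ι, (X.unop ⟶ U i)) => bs U x.1 x.2) (Fin.append_left _ _ j)
          | exact congrArg (fun x : (Σ i : ι, (X.unop ⟶ U i)) => bs U x.1 x.2) (Fin.append_right _ _ j)
  choose n i a c hc using fun l => h1 (φ l)
  refine ⟨Σ l, Fin (n l), inferInstance, fun y => i y.1 y.2, fun y => a y.1 y.2,
    fun l y => if y.1 = l then c y.1 y.2 else 0, fun l => ?_⟩
  rw [hc l, Fintype.sum_sigma]
  refine Eq.symm ((Finset.sum_eq_single l (fun l' _ hl' => ?_) fun h => absurd (Finset.mem_univ _) h).trans ?_)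
  · exact Finset.sum_eq_zero fun j _ => by dsimp only; rw [if_neg hl', zero_smul]
  · exact Finset.sum_congr rfl fun j _ => by dsimp only; rw [if_pos rfl]

variable {A : ModSite.Mod O_C} {S : ShortComplex (ModSite.Mod O_D)}

/-- Last stage: finitely many distinct basis sections, with vanishing coefficients. -/
theorem shu_tRep_eq_zero_of_coeff (hS : S.ShortExact) (hM : ModSite.IsFlat S.X₃)
    {W : C} {V : D} (h : W ⟶ f.fn.obj V) {σ Y : Type} [Fintype σ] [Fintype Y]
    (a : σ → ((fg O_C).obj A).obj (op W)) (k : σ → ((fg O_D).obj S.X₁).obj (op V))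
    (c : σ → Y → O_D.obj.obj (op V)) (e : Y → ((fg O_D).obj S.X₂).obj (op V))
    (hk : ∀ l, ((fg O_D).map S.f).app (op V) (k l) = ∑ y, c l y • e y)
    (hv : ∀ y, ∑ l, (O_C.obj.map h.op).hom (shp f (c l y)) • a l = 0) :
    shu (tPull f A S.X₁) (tRep f A S.X₁ h a k) = 0 := by
  classical
  have := hS.mono_f
  have := hS.epi_g
  let M' := (fg O_D).obj S.X₃
  have hrel : ∀ l, ∑ y, c l y • ((fg O_D).map S.g).app (op V) (e y) = 0 := fun l => by
    have e0 : ((fg O_D).map S.g).app (op V) (((fg O_D).map S.f).app (op V) (k l)) = 0 := by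
      have := congrArg (fun t => ((fg O_D).map t).app (op V) (k l)) S.zero
      exact this
    rw [hk l, map_sum] at e0
    exact (Finset.sum_congr rfl fun y _ => (map_smul _ _ _).symm).trans e0
  have hlift := (exists_trivialisation hM c (fun y => ((fg O_D).map S.g).app (op V) (e y)) hrel).bind
    (Q := fun V' d => ∃ (kk : Y → ((fg O_D).obj S.X₁).obj (op V')),
      ∀ l, rs ((fg O_D).obj S.X₁) d.op (k l) = ∑ y, (O_D.obj.map d.op).hom (c l y) • kk y)
    (fun V' d ⟨n, N, t, ht, hN⟩ => by
      refine (Locally.forall_fintype fun j => locally_exists_app_eq S.g (t j)).mono fun V'' d' hd' => ?_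
      choose T hT using hd'
      let e' : Y → ((fg O_D).obj S.X₂).obj (op V'') := fun y =>
        rs ((fg O_D).obj S.X₂) (d' ≫ d).op (e y) - ∑ j, (O_D.obj.map d'.op).hom (N j y) • T j
      have he' : ∀ y, ((fg O_D).map S.g).app (op V'') (e' y) = 0 := fun y => by
        rw [map_sub, map_sum, app_rs, op_comp, rs_comp, ht y, rs_sum, sub_eq_zero]
        exact Finset.sum_congr rfl fun j _ => by rw [rs_smul, map_smul, hT j]
      choose kk hkk using fun y => exists_app_eq_of_exact hS (e' y) (he' y)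
      refine ⟨kk, fun l => app_injective S.f (op V'') ?_⟩
      rw [app_rs, hk l, rs_sum, map_sum]
      refine Eq.symm ?_
      calc ∑ y, ((fg O_D).map S.f).app (op V'') ((O_D.obj.map (d' ≫ d).op).hom (c l y) • kk y)
          = ∑ y, ((O_D.obj.map (d' ≫ d).op).hom (c l y) • rs ((fg O_D).obj S.X₂) (d' ≫ d).op (e y)) -
              ∑ j, (∑ y, (O_D.obj.map (d' ≫ d).op).hom (c l y) * (O_D.obj.map d'.op).hom (N j y)) • T j := by
            simp only [map_smul, hkk, e', smul_sub, Finset.smul_sum, Finset.sum_sub_distrib, Finset.sum_smul,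
              mul_smul]
            rw [Finset.sum_comm (f := fun j y => (O_D.obj.map (d' ≫ d).op).hom (c l y) •
              (O_D.obj.map d'.op).hom (N j y) • T j)]
        _ = ∑ y, rs ((fg O_D).obj S.X₂) (d' ≫ d).op (c l y • e y) := by
            have z : ∀ j, (∑ y, (O_D.obj.map (d' ≫ d).op).hom (c l y) * (O_D.obj.map d'.op).hom (N j y)) = 0 := by
              intro j
              have := congrArg (O_D.obj.map d'.op).hom (hN l j)
              rw [map_sum, map_zero] at this
              refine Eq.trans ?_ this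
              refine Finset.sum_congr rfl fun y _ => ?_
              rw [map_mul, op_comp, O_D.obj.map_comp]
              rfl
            rw [Finset.sum_eq_zero (s := (Finset.univ : Finset (Fin n))) fun j _ => by rw [z j, zero_smul],
              sub_zero]
            exact Finset.sum_congr rfl fun y _ => (rs_smul _ _ _).symm)
  refine eq_of_locally' _ ((locally_lift f hlift h).mono fun W' g ⟨V', d, h', ⟨kk, hkk⟩, eh⟩ => ?_)
  refine Eq.trans ?_ (map_zero (((fg O_C).obj ((sh O_C).obj (tPull f A S.X₁))).map g.op).hom).symm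
  rw [rs_shu, rs_tRep, tRep_map f d _ h' eh]
  refine (congrArg (fun z => shu (tPull f A S.X₁) z) ?_).trans (shu_zero _)
  let a' := fun l => rs ((fg O_C).obj A) g.op (a l)
  let κ' := fun y => rs ((fg O_C).obj (f.pull.obj S.X₁)) h'.op (pu f S.X₁ (U := op V') (kk y))
  let r := fun l y => (O_C.obj.map h'.op).hom (shp f ((O_D.obj.map d.op).hom (c l y)))
  have hr : ∀ y, ∑ l, r l y • a' l = 0 := fun y => by
    have := congrArg (fun z => rs ((fg O_C).obj A) g.op z) (hv y)
    refine Eq.trans ?_ (this.trans (map_zero _))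
    refine Eq.trans ?_ (rs_sum (P := (fg O_C).obj A) g.op Finset.univ _).symm
    refine Finset.sum_congr rfl fun l _ => Eq.trans ?_ (rs_smul g.op _ _).symm
    refine congrArg (fun s : O_C.obj.obj (op W') => s • a' l) ?_
    refine (shp_restrict f d (g ≫ h) h' eh (c l y)).trans ?_
    rw [op_comp, O_C.obj.map_comp]
    rfl
  calc tRep f A S.X₁ h' a' (fun l => rs ((fg O_D).obj S.X₁) d.op (k l))
      = ∑ l, ∑ y, tm (R := O_C.obj) (r l y • a' l) (κ' y) := by
        refine Finset.sum_congr rfl fun l _ => ?_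
        dsimp only
        rw [hkk l]
        have e1 : rs ((fg O_C).obj (f.pull.obj S.X₁)) h'.op
            (pu f S.X₁ (U := op V') (∑ y, (O_D.obj.map d.op).hom (c l y) • kk y)) = ∑ y, r l y • κ' y := by
          rw [pu_sum, rs_sum]
          exact Finset.sum_congr rfl fun y _ => (congrArg (fun z => rs _ h'.op z) (pu_smul f S.X₁ _ _)).trans
            (rs_smul h'.op _ _)
        rw [e1, tm_sum_right]
        exact Finset.sum_congr rfl fun y _ => (TensorProduct.smul_tmul _ _ _).symm
    _ = 0 := by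
        rw [Finset.sum_comm]
        refine Finset.sum_eq_zero fun y _ => ?_
        rw [← tm_sum_left, hr y]
        exact TensorProduct.zero_tmul _ _

section Main

/-- A linear form on the second factor, applied to a tensor. -/
noncomputable def evr {P Q : P₀ O_C} {X : Cᵒᵖ} (e : Q.obj X →ₗ[O_C.obj.obj X] O_C.obj.obj X) :
    (P ⊗ Q : P₀ O_C).obj X →ₗ[O_C.obj.obj X] P.obj X :=
  TensorProduct.lift ((LinearMap.lsmul (O_C.obj.obj X) (P.obj X)).comp e).flip

lemma evr_tm {P Q : P₀ O_C} {X : Cᵒᵖ} (e : Q.obj X →ₗ[O_C.obj.obj X] O_C.obj.obj X) (p : P.obj X) (q : Q.obj X) :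
    evr e (tm (R := O_C.obj) p q) = e q • p := TensorProduct.lift.tmul p q

lemma sum_filter_eq_zero_of_tensor {P : P₀ O_C} {ι' : Type u} {U' : ι' → C} {W : C} {Y : Type} [Fintype Y]
    (v : Y → P.obj (op W)) (x : Y → (sigYon U').obj (op W))
    (h : ∑ y, tm (R := O_C.obj) (v y) (bs (O := O_C) U' (x y).1 (x y).2) = 0)
    (s : (sigYon U').obj (op W)) [DecidablePred fun y => x y = s] :
    ∑ y ∈ Finset.univ.filter (fun y => x y = s), v y = 0 := by
  have h' := congrArg (evr (P := P) (coef (O := O_C) (U := U') (X := op W) s.1 s.2)) h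
  rw [map_sum, map_zero] at h'
  refine Eq.trans ?_ h'
  rw [Finset.sum_filter]
  refine Finset.sum_congr rfl fun y _ => ?_
  refine Eq.trans ?_ (evr_tm _ _ _).symm
  by_cases hy : x y = s
  · rw [if_pos hy]
    subst hy
    rw [coef_bs_self, one_smul]
  · rw [if_neg hy]
    generalize x y = xy at hy
    obtain ⟨i, a⟩ := xy
    obtain ⟨j, b⟩ := s
    by_cases hij : i = j
    · subst hij
      rw [coef_bs_of_hom_ne (U := U') i b a (fun e => hy (by rw [e])), zero_smul]
    · rw [coef_bs_of_idx_ne (U := U') j b i a hij, zero_smul]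

variable {ι : Type u} (U : ι → D)

lemma locally_equalize {W : C} {V : D} (h : W ⟶ f.fn.obj V) {Y : Type} (i : Y → ι) (a : ∀ y, V ⟶ U (i y))
    (P : Finset (Y × Y))
    (hP : ∀ p ∈ P, (⟨i p.1, h ≫ f.fn.map (a p.1)⟩ : (sigYon (imgFam f U)).obj (op W)) =
      ⟨i p.2, h ≫ f.fn.map (a p.2)⟩) :
    Locally J W (fun W' g => ∃ (V' : D) (c : V' ⟶ V) (h' : W' ⟶ f.fn.obj V'), h' ≫ f.fn.map c = g ≫ h ∧
      ∀ p ∈ P, (⟨i p.1, c ≫ a p.1⟩ : (sigYon U).obj (op V')) = ⟨i p.2, c ≫ a p.2⟩) := by
  classical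
  induction P using Finset.induction_on with
  | empty =>
    exact Locally.of_id fun W' g => ⟨V, 𝟙 V, g ≫ h, by rw [f.fn.map_id, Category.comp_id],
      fun p hp => absurd hp (Finset.notMem_empty p)⟩
  | insert p P hp ih =>
    refine (ih fun q hq => hP q (Finset.mem_insert_of_mem hq)).bind fun W' g ⟨V', c, h', e, hc⟩ => ?_
    obtain ⟨y, y'⟩ := p
    have hi : i y = i y' := congrArg Sigma.fst (hP (y, y') (Finset.mem_insert_self _ _))
    have hU : U (i y') = U (i y) := congrArg U hi.symm
    have key : ∀ {V'' : D} (d : V'' ⟶ V') (j : ι) (hj : i y = j) (a' : V ⟶ U j),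
        ((⟨i y, d ≫ c ≫ a y⟩ : (sigYon U).obj (op V'')) = ⟨j, d ≫ c ≫ a'⟩ ↔
          d ≫ c ≫ a y ≫ eqToHom (congrArg U hj) = d ≫ c ≫ a') := by
      intro V'' d j hj a'
      subst hj
      simp
    have h0 : h' ≫ f.fn.map (c ≫ a y ≫ eqToHom (congrArg U hi)) = h' ≫ f.fn.map (c ≫ a y') := by
      have H := hP (y, y') (Finset.mem_insert_self _ _)
      have H' : ∀ (j : ι) (hj : i y = j) (a' : V ⟶ U j),
          (⟨i y, h ≫ f.fn.map (a y)⟩ : (sigYon (imgFam f U)).obj (op W)) = ⟨j, h ≫ f.fn.map a'⟩ →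
            h ≫ f.fn.map (a y ≫ eqToHom (congrArg U hj)) = h ≫ f.fn.map a' := by
        intro j hj a' H
        subst hj
        rw [eqToHom_refl, Category.comp_id]
        exact eq_of_heq (Sigma.mk.inj_iff.1 H).2
      rw [f.fn.map_comp c, f.fn.map_comp c, reassoc_of% e, reassoc_of% e, H' _ hi _ H]
    refine ⟨_, eqSieve_mem (K := K) f.fn _ _ h' h0, fun W'' g' ⟨V'', d, h'', hd, e'⟩ => ?_⟩
    refine ⟨V'', d ≫ c, h'', by rw [f.fn.map_comp, reassoc_of% e', e, Category.assoc], fun q hq => ?_⟩
    rcases Finset.mem_insert.1 hq with rfl | hq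
    · have := (key d _ hi (a y')).2 hd
      simp only [Category.assoc]
      exact this
    · have := congrArg (fun z => (sigYon U).map d.op z) (hc q hq)
      simp only [Category.assoc]
      exact this

variable {U} {X₁ X₃ : ModSite.Mod O_D}

/-- Tensors killed by a presentation of a flat module vanish. -/
theorem shu_tRep_eq_zero (κ : X₁ ⟶ (sh O_D).obj (sigFree O_D U)) (π : (sh O_D).obj (sigFree O_D U) ⟶ X₃)
    (w : κ ≫ π = 0) (hS : (ShortComplex.mk κ π w).ShortExact) (hM : ModSite.IsFlat X₃)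
    {W : C} {V : D} (h : W ⟶ f.fn.obj V) {σ : Type} [Fintype σ]
    (a : σ → ((fg O_C).obj A).obj (op W)) (k : σ → ((fg O_D).obj X₁).obj (op V))
    (h0 : ((fg O_C).map (((ModSite.tensorBi O_C).obj A).map (f.pull.map κ ≫ pullFreeHom f U))).app (op W)
      (shu (tPull f A X₁) (tRep f A X₁ h a k)) = 0) :
    shu (tPull f A X₁) (tRep f A X₁ h a k) = 0 := by
  classical
  let F := sigFree O_D U
  let F' := sigFree O_C (imgFam f U)
  let A' := (fg O_C).obj A
  -- expand `κ k_l` in finitely many basis sections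
  refine eq_of_locally' _ (((locally_lift f (Locally.forall_fintype fun l =>
    locally_exists_shu F (((fg O_D).map κ).app (op V) (k l))) h)).bind
      fun W' g ⟨V', c, h', hφ, e⟩ => ?_)
  choose φ hφ using hφ
  obtain ⟨Y, _, i, b, cc, hcc⟩ := exists_common_basis U φ
  let a' := fun l => rs A' g.op (a l)
  let k' := fun l => rs ((fg O_D).obj X₁) c.op (k l)
  have et : rs ((fg O_C).obj ((sh O_C).obj (tPull f A X₁))) g.op (shu (tPull f A X₁) (tRep f A X₁ h a k)) =
      shu (tPull f A X₁) (tRep f A X₁ h' a' k') := by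
    rw [rs_shu, rs_tRep, tRep_map f c _ h' e]
  let v : Y → A'.obj (op W') := fun y => ∑ l, (O_C.obj.map h'.op).hom (shp f (cc l y)) • a' l
  let x : Y → (sigYon (imgFam f U)).obj (op W') := fun y => ⟨i y, h' ≫ f.fn.map (b y)⟩
  let z₀ : (A' ⊗ F' : P₀ O_C).obj (op W') := ∑ y, tm (R := O_C.obj) (v y) (bs (imgFam f U) (x y).1 (x y).2)
  have hz : shu (A' ⊗ F' : P₀ O_C) z₀ = shu (A' ⊗ F' : P₀ O_C) 0 := by
    have : IsIso ((sh O_C).map (A' ◁ (shAdj O_C).unit.app F')) := isIso_sh_map_whiskerLeft_unit A' F'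
    refine app_injective ((sh O_C).map (A' ◁ (shAdj O_C).unit.app F')) (op W') ?_
    refine (shu_naturality _ z₀).trans (Eq.trans ?_ ((shu_naturality _ 0).trans
      ((congrArg (fun z => shu _ z) (map_zero _)).trans (shu_zero _))).symm)
    let T := (fg O_C).map (((ModSite.tensorBi O_C).obj A).map (f.pull.map κ ≫ pullFreeHom f U))
    have h1 : T.app (op W') (shu (tPull f A X₁) (tRep f A X₁ h' a' k')) = 0 :=
      (congrArg (fun z => T.app (op W') z) et.symm).trans ((app_rs T g.op _).trans
        ((congrArg (fun z => rs _ g.op z) h0).trans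
          (map_zero (((fg O_C).obj (((ModSite.tensorBi O_C).obj A).obj ((sh O_C).obj F'))).map g.op).hom)))
    refine Eq.trans ?_ h1
    refine Eq.trans ?_ (shu_naturality (A' ◁ (fg O_C).map (f.pull.map κ ≫ pullFreeHom f U)) _).symm
    refine congrArg (fun z => shu (A' ⊗ (fg O_C).obj ((sh O_C).obj F') : P₀ O_C) z) ?_
    refine Eq.trans ?_ (map_sum _ _ _).symm
    refine (map_sum _ _ _).trans ?_
    have el : ∀ l, ((fg O_C).map (f.pull.map κ ≫ pullFreeHom f U)).app (op W')
        (rs ((fg O_C).obj (f.pull.obj X₁)) h'.op (pu f X₁ (U := op V') (k' l))) =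
        ∑ y, (O_C.obj.map h'.op).hom (shp f (cc l y)) • shu F' (bs (imgFam f U) (x y).1 (x y).2) := fun l => by
      rw [app_rs]
      have e1 : ((fg O_C).map (f.pull.map κ ≫ pullFreeHom f U)).app (op (f.fn.obj V')) (pu f X₁ (U := op V') (k' l)) =
          ∑ y, shp f (cc l y) • shu F' (bs (imgFam f U) (i y) (f.fn.map (b y))) := by
        refine (congrArg (fun z => ((fg O_C).map (pullFreeHom f U)).app (op (f.fn.obj V')) z)
          (pu_naturality f κ _)).trans ?_
        have e2 : ((fg O_D).map κ).app (op V') (k' l) = ∑ y, cc l y • shu F (bs U (i y) (b y)) := by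
          rw [show k' l = rs _ c.op (k l) from rfl, app_rs, ← hφ l, hcc l]
          exact (map_sum (((shAdj O_D).unit.app F).app (op V')).hom _ _).trans
            (Finset.sum_congr rfl fun y _ => shu_smul _ _ _)
        rw [e2, pu_sum]
        refine (map_sum _ _ _).trans (Finset.sum_congr rfl fun y _ => ?_)
        refine (congrArg _ (pu_smul f _ (cc l y) _)).trans ((map_smul _ _ _).trans ?_)
        exact congrArg (fun z => shp f (cc l y) • z) (pullFreeHom_pu f U (V := op V') (i y) (b y))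
      rw [e1, rs_sum]
      refine Finset.sum_congr rfl fun y _ => ?_
      refine (rs_smul _ _ _).trans (congrArg (fun z => (O_C.obj.map h'.op).hom (shp f (cc l y)) • z) ?_)
      refine (rs_shu F' h'.op _).trans ?_
      exact congrArg (fun z => shu F' z) (rs_bs (imgFam f U) h'.op _ _)
    refine Eq.trans ?_ (Finset.sum_congr rfl fun l _ =>
      (congrArg (fun z => tm (R := O_C.obj) (a' l) z) (el l)).trans (tm_sum_right _ Finset.univ _)).symm
    rw [Finset.sum_comm]
    refine Finset.sum_congr rfl fun y _ => ?_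
    refine Eq.trans ?_ ((tm_sum_left _ Finset.univ _).trans
      (Finset.sum_congr rfl fun l _ => TensorProduct.smul_tmul _ _ _))
    rfl
  suffices goal' : Locally J W' (fun W'' g' => rs ((fg O_C).obj ((sh O_C).obj (tPull f A X₁))) g'.op
      (shu (tPull f A X₁) (tRep f A X₁ h' a' k')) = 0) by
    refine goal'.mono fun W'' g' hg' => ?_
    refine ((rs_comp g.op g'.op _).trans ((congrArg (fun z => rs _ g'.op z) et).trans hg')).trans ?_
    exact (map_zero (((fg O_C).obj ((sh O_C).obj (tPull f A X₁))).map (g' ≫ g).op).hom).symm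
  refine (locally_eq_of_shu_eq _ z₀ 0 hz).bind fun W'' g' hg' => ?_
  -- now `z₀` vanishes; merge equal basis sections
  have hg0 : ∑ y, tm (R := O_C.obj) (rs A' g'.op (v y))
      (bs (imgFam f U) (i y) ((g' ≫ h') ≫ f.fn.map (b y))) = 0 := by
    refine Eq.trans ?_ (hg'.trans (map_zero _))
    refine Eq.trans ?_ (rs_sum (P := (A' ⊗ F' : P₀ O_C)) g'.op Finset.univ _).symm
    refine Finset.sum_congr rfl fun y _ => Eq.trans ?_ (rs_tm g'.op _ _).symm
    exact congrArg (fun z => tm (R := O_C.obj) (rs A' g'.op (v y)) z)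
      ((congrArg (fun t => bs (imgFam f U) (i y) t) (Category.assoc _ _ _)).trans (rs_bs _ _ _ _).symm)
  let x' : Y → (sigYon (imgFam f U)).obj (op W'') := fun y => ⟨i y, (g' ≫ h') ≫ f.fn.map (b y)⟩
  let P : Finset (Y × Y) := Finset.univ.filter fun p => x' p.1 = x' p.2
  refine (locally_equalize f U (g' ≫ h') i b P fun p hp => (Finset.mem_filter.1 hp).2).mono
    fun W₃ g'' ⟨V'', d, h'', ed, hd⟩ => ?_
  rw [op_comp, rs_comp, rs_shu, rs_tRep, rs_shu, rs_tRep, tRep_map f d _ h'' (by rw [ed])]
  let γ : Y → (sigYon U).obj (op V'') := fun y => ⟨i y, d ≫ b y⟩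
  letI : Setoid Y := Setoid.ker γ
  let Y' := Quotient (Setoid.ker γ)
  refine shu_tRep_eq_zero_of_coeff f hS hM (Y := Y') h'' _ _
    (fun l q => ∑ y ∈ Finset.univ.filter (fun y => Quotient.mk'' y = q), (O_D.obj.map d.op).hom (cc l y))
    (fun q => shu F (bs U (Setoid.kerLift γ q).1 (Setoid.kerLift γ q).2)) (fun l => ?_) (fun q => ?_)
  · have e2 : ((fg O_D).map κ).app (op V'') (rs ((fg O_D).obj X₁) d.op (k' l)) =
        ∑ y, (O_D.obj.map d.op).hom (cc l y) • shu F (bs U (γ y).1 (γ y).2) := by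
      rw [app_rs, show ((fg O_D).map κ).app (op V') (k' l) = shu F (φ l) from
        (app_rs ((fg O_D).map κ) c.op (k l)).trans (hφ l).symm, hcc l, rs_shu, rs_sum]
      refine (map_sum (((shAdj O_D).unit.app F).app (op V'')).hom _ _).trans (Finset.sum_congr rfl fun y _ => ?_)
      refine (congrArg (fun z => shu F z) ((rs_smul _ _ _).trans
        (congrArg (fun z => (O_D.obj.map d.op).hom (cc l y) • z) (rs_bs U d.op (i y) (b y))))).trans ?_
      exact shu_smul _ _ _
    refine e2.trans ?_
    rw [← Finset.sum_fiberwise Finset.univ (fun y => (Quotient.mk'' y : Y'))]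
    refine Finset.sum_congr rfl fun q _ => ?_
    rw [Finset.sum_smul]
    refine Finset.sum_congr rfl fun y hy => ?_
    rw [← (Finset.mem_filter.1 hy).2]
    rfl
  · -- the coefficient of `q` is a sum of the `v`'s over whole fibres
    have hfib : ∀ q : Y', ∑ y ∈ Finset.univ.filter (fun y => Quotient.mk'' y = q), rs A' g'.op (v y) = 0 := by
      intro q
      rw [← Finset.sum_fiberwise_of_maps_to (t := Finset.univ.image x') (g := x')
        (fun y _ => Finset.mem_image_of_mem x' (Finset.mem_univ y))]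
      refine Finset.sum_eq_zero fun s _ => ?_
      by_cases hs : ∃ y, x' y = s ∧ (Quotient.mk'' y : Y') = q
      · obtain ⟨y₀, hy₀, hq⟩ := hs
        refine Eq.trans ?_ (sum_filter_eq_zero_of_tensor (fun y => rs A' g'.op (v y)) x' hg0 s)
        refine Finset.sum_congr ?_ fun _ _ => rfl
        ext y
        simp only [Finset.mem_filter, Finset.mem_univ, true_and]
        refine ⟨fun h => h.2, fun h => ⟨?_, h⟩⟩
        rw [← hq]
        exact Quotient.sound (hd (y, y₀) (Finset.mem_filter.2 ⟨Finset.mem_univ _, h.trans hy₀.symm⟩))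
      · refine Finset.sum_eq_zero fun y hy => absurd ⟨y, ?_⟩ hs
        simp only [Finset.mem_filter, Finset.mem_univ, true_and] at hy
        exact ⟨hy.2, hy.1⟩
    refine Eq.trans ?_ ((congrArg (fun z => rs A' g''.op z) (hfib q)).trans (map_zero _))
    refine Eq.trans ?_ (rs_sum (P := A') g''.op _ _).symm
    refine Eq.trans ?_ (Finset.sum_congr rfl fun y _ => (congrArg (fun z => rs A' g''.op z)
      (rs_sum (P := A') g'.op Finset.univ _)).trans (rs_sum g''.op Finset.univ _)).symm
    rw [Finset.sum_comm]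
    refine Finset.sum_congr rfl fun l _ => ?_
    rw [shp_sum, map_sum]
    refine Eq.trans Finset.sum_smul ?_
    refine Finset.sum_congr rfl fun y _ => ?_
    rw [rs_smul, rs_smul]
    refine congrArg (fun r : O_C.obj.obj (op W₃) => r • rs A' g''.op (rs A' g'.op (a' l))) ?_
    refine (shp_restrict f d ((g'' ≫ g') ≫ h') h'' (ed.trans (Category.assoc _ _ _).symm) (cc l y)).trans ?_
    simp only [op_comp, Category.assoc, Functor.map_comp]
    rfl

end Main

end Groth.Agent.ModPull
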