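import Groth.Agent.ModPull.Unit
import Groth.Agent.ModPull.Criterion

/-!
# Tensors with pulled back sections
-/

universe u

open CategoryTheory CategoryTheory.Limits Opposite MonoidalCategory
open Groth.Agent.ModTensor
open scoped TensorProduct

namespace Groth.Agent.ModPull

variable {C D : Type u} [SmallCategory C] [SmallCategory D] {J : GrothendieckTopology C}
  {K : GrothendieckTopology D} {O_C : Sheaf J CommRingCat.{u}} {O_D : Sheaf K CommRingCat.{u}}
  (f : ModSite.RMor O_C O_D) (A : ModSite.Mod O_C) (M : ModSite.Mod O_D)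

/-- The presheaf tensor product with an inverse image. -/
noncomputable abbrev tPull : P₀ O_C := (fg O_C).obj A ⊗ (fg O_C).obj (f.pull.obj M)

/-- A combination of tensors with pulled back sections. -/
noncomputable def tRep {W : C} {V : D} (h : W ⟶ f.fn.obj V) {σ : Type} [Fintype σ]
    (a : σ → ((fg O_C).obj A).obj (op W)) (k : σ → ((fg O_D).obj M).obj (op V)) :
    (tPull f A M).obj (op W) :=
  ∑ l, tm (R := O_C.obj) (a l) (rs ((fg O_C).obj (f.pull.obj M)) h.op (pu f M (U := op V) (k l)))

variable {A M}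

lemma rs_tRep {W W' : C} {V : D} (g : W' ⟶ W) (h : W ⟶ f.fn.obj V) {σ : Type} [Fintype σ]
    (a : σ → ((fg O_C).obj A).obj (op W)) (k : σ → ((fg O_D).obj M).obj (op V)) :
    rs (tPull f A M) g.op (tRep f A M h a k) =
      tRep f A M (g ≫ h) (fun l => rs ((fg O_C).obj A) g.op (a l)) k := by
  refine (rs_sum (P := tPull f A M) g.op Finset.univ _).trans (Finset.sum_congr rfl fun l _ => ?_)
  refine (rs_tm g.op _ _).trans ?_
  exact congrArg (fun z => tm (R := O_C.obj) (rs ((fg O_C).obj A) g.op (a l)) z)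
    (rs_comp (P := (fg O_C).obj (f.pull.obj M)) h.op g.op _).symm

lemma tRep_map {W : C} {V V' : D} (c : V' ⟶ V) (h : W ⟶ f.fn.obj V) (h' : W ⟶ f.fn.obj V')
    (e : h' ≫ f.fn.map c = h) {σ : Type} [Fintype σ]
    (a : σ → ((fg O_C).obj A).obj (op W)) (k : σ → ((fg O_D).obj M).obj (op V)) :
    tRep f A M h a k = tRep f A M h' a (fun l => rs ((fg O_D).obj M) c.op (k l)) := by
  refine Finset.sum_congr rfl fun l _ =>
    congrArg (fun z => tm (R := O_C.obj) (a l) z) ?_
  refine Eq.trans ?_ (congrArg (fun z => rs ((fg O_C).obj (f.pull.obj M)) h'.op z) (pu_rs f M c.op (k l))).symm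
  subst e
  exact rs_comp (P := (fg O_C).obj (f.pull.obj M)) (f.fn.map c).op h'.op _

lemma shp_restrict {W : C} {V V' : D} (c : V' ⟶ V) (h : W ⟶ f.fn.obj V) (h' : W ⟶ f.fn.obj V')
    (e : h' ≫ f.fn.map c = h) (r : O_D.obj.obj (op V)) :
    (O_C.obj.map h'.op).hom (shp f ((O_D.obj.map c.op).hom r)) = (O_C.obj.map h.op).hom (shp f r) := by
  subst e
  rw [shp_map, op_comp, O_C.obj.map_comp]
  rfl

variable (A M)

/-- Being locally a combination of tensors with pulled back sections, at one stage. -/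
def HasRep {W : C} (t : (tPull f A M).obj (op W)) : Prop :=
  ∃ (V : D) (h : W ⟶ f.fn.obj V) (n : ℕ) (a : Fin n → ((fg O_C).obj A).obj (op W))
    (k : Fin n → ((fg O_D).obj M).obj (op V)), t = tRep f A M h a k

variable {A M}

lemma hasRep_rs {W W' : C} (g : W' ⟶ W) {t : (tPull f A M).obj (op W)} (ht : HasRep f A M t) :
    HasRep f A M (rs (tPull f A M) g.op t) := by
  obtain ⟨V, h, n, a, k, rfl⟩ := ht
  exact ⟨V, g ≫ h, n, _, k, rs_tRep f g h a k⟩

lemma locally_hasRep_zero (W : C) :
    Locally J W (fun V g => HasRep f A M (rs (tPull f A M) g.op (0 : (tPull f A M).obj (op W)))) :=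
  ⟨_, someSieve_mem (K := K) f.fn W, fun W' g ⟨V, ⟨h⟩⟩ => ⟨V, h, 0, Fin.elim0, Fin.elim0,
    (map_zero ((tPull f A M).map g.op).hom).trans (Finset.sum_eq_zero fun l _ => l.elim0).symm⟩⟩

lemma locally_hasRep_add {W : C} {s t : (tPull f A M).obj (op W)} (hs : HasRep f A M s) (ht : HasRep f A M t) :
    Locally J W (fun V g => HasRep f A M (rs (tPull f A M) g.op (s + t))) := by
  obtain ⟨V, h, n, a, k, rfl⟩ := hs
  obtain ⟨V', h', n', a', k', rfl⟩ := ht
  refine ⟨_, pairSieve_mem (K := K) f.fn h h', fun W' g ⟨V'', c, c', h'', e, e'⟩ => ?_⟩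
  refine ⟨V'', h'', n + n', Fin.append (fun l => rs ((fg O_C).obj A) g.op (a l))
    (fun l => rs ((fg O_C).obj A) g.op (a' l)),
    Fin.append (fun l => rs ((fg O_D).obj M) c.op (k l)) (fun l => rs ((fg O_D).obj M) c'.op (k' l)), ?_⟩
  refine (rs_add (P := tPull f A M) g.op _ _).trans ?_
  refine (congrArg₂ (· + ·) ((rs_tRep f g h a k).trans (tRep_map f c _ h'' e _ k))
    ((rs_tRep f g h' a' k').trans (tRep_map f c' _ h'' e' _ k'))).trans ?_
  refine Eq.symm ((Fin.sum_univ_add _).trans ?_)
  simp only [Fin.append_left, Fin.append_right, tRep]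

lemma locally_hasRep_tm {W : C} (a : ((fg O_C).obj A).obj (op W))
    (k : ((fg O_C).obj (f.pull.obj M)).obj (op W)) :
    Locally J W (fun V g => HasRep f A M (rs (tPull f A M) g.op (tm (R := O_C.obj) a k))) := by
  let U : (Σ U : D, ((fg O_D).obj M).obj (op U)) → D := fun p => p.1
  have : (f.pull).PreservesEpimorphisms := Functor.preservesEpimorphisms_of_adjunction f.adj
  let φ := (pullFreeIso f U).inv ≫ f.pull.map (coverHom M)
  have : Epi φ := epi_comp _ _
  refine (locally_exists_app_eq φ k).bind fun W' g hg => ?_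
  obtain ⟨p, hp⟩ := hg
  refine (locally_exists_shu _ p).bind fun W'' g' hg' => ?_
  obtain ⟨w, hw⟩ := hg'
  have e : rs ((fg O_C).obj (f.pull.obj M)) (g' ≫ g).op k =
      ((fg O_C).map φ).app (op W'') (shu (sigFree O_C (imgFam f U)) w) := by
    rw [hw, app_rs, hp]
    exact rs_comp g.op g'.op k
  suffices H : ∀ (w : (sigFree O_C (imgFam f U)).obj (op W'')) (a' : ((fg O_C).obj A).obj (op W'')),
      Locally J W'' (fun V i => HasRep f A M (rs (tPull f A M) i.op (tm (R := O_C.obj) a'
        (((fg O_C).map φ).app (op W'') (shu (sigFree O_C (imgFam f U)) w))))) by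
    refine (H w (rs ((fg O_C).obj A) (g' ≫ g).op a)).mono fun V i hi => ?_
    rw [← e] at hi
    have e2 : rs (tPull f A M) (i ≫ g' ≫ g).op (tm (R := O_C.obj) a k) =
        rs (tPull f A M) i.op (tm (R := O_C.obj) (rs ((fg O_C).obj A) (g' ≫ g).op a)
          (rs ((fg O_C).obj (f.pull.obj M)) (g' ≫ g).op k)) :=
      (rs_comp (P := tPull f A M) (g' ≫ g).op i.op _).trans
        (congrArg (fun z => rs (tPull f A M) i.op z) (rs_tm (g' ≫ g).op a k))
    rw [← e2] at hi
    rw [Category.assoc]
    exact hi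
  intro w
  induction w using sigFree_induction with
  | zero =>
    intro a'
    refine (locally_hasRep_zero (A := A) (M := M) f W'').mono fun V i hi => ?_
    rw [shu_zero, map_zero, show tm (R := O_C.obj) a' (0 : ((fg O_C).obj (f.pull.obj M)).obj (op W'')) = 0 from
      TensorProduct.tmul_zero _ _]
    exact hi
  | add w₁ w₂ h₁ h₂ =>
    intro a'
    refine ((h₁ a').and (h₂ a')).bind fun V i hi => ?_
    refine (locally_hasRep_add f hi.1 hi.2).mono fun V' i' hi' => ?_
    rw [← rs_add, ← rs_comp] at hi'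
    rw [shu_add, map_add, show ∀ x y, tm (R := O_C.obj) a' (x + y) = tm (R := O_C.obj) a' x + tm (R := O_C.obj) a' y
      from fun x y => TensorProduct.tmul_add _ x y]
    exact hi'
  | smul c q b =>
    intro a'
    refine Locally.of_id fun V i => hasRep_rs f i ?_
    refine ⟨q.1, b, 1, fun _ => c • a', fun _ => q.2, ?_⟩
    rw [shu_smul, map_smul]
    have hb : ((fg O_C).map φ).app (op W'') (shu (sigFree O_C (imgFam f U)) (bs (imgFam f U) q b)) =
        rs ((fg O_C).obj (f.pull.obj M)) b.op (pu f M (U := op q.1) q.2) := by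
      show ((fg O_C).map (f.pull.map (coverHom M))).app (op W'') (((fg O_C).map (pullFreeInv f U)).app (op W'') _) = _
      rw [pullFreeInv_bs, app_rs]
      refine congrArg (fun z => rs ((fg O_C).obj (f.pull.obj M)) b.op z) ?_
      refine (pu_naturality f (coverHom M) _).trans (congrArg (fun z => pu f M (U := op q.1) z) ?_)
      refine (coverHom_bs M q (𝟙 q.1)).trans ?_
      exact rs_id _
    rw [hb]
    refine Eq.trans ?_ (Finset.sum_singleton _ (0 : Fin 1)).symm
    exact (TensorProduct.smul_tmul (R := O_C.obj.obj (op W'')) c a' _).symm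

theorem locally_hasRep {W : C} (t : (tPull f A M).obj (op W)) :
    Locally J W (fun V g => HasRep f A M (rs (tPull f A M) g.op t)) := by
  induction t using TensorProduct.induction_on with
  | zero => exact locally_hasRep_zero f W
  | tmul a k => exact locally_hasRep_tm f a k
  | add s t hs ht =>
    refine (hs.and ht).bind fun V g hg => ?_
    refine (locally_hasRep_add f hg.1 hg.2).mono fun V' g' hg' => ?_
    let P := tPull f A M
    have e : rs P g'.op (rs P g.op s + rs P g.op t) = rs P (g' ≫ g).op (s + t) :=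
      (congrArg (fun z => rs P g'.op z) (rs_add (P := P) g.op s t).symm).trans
        (rs_comp (P := P) g.op g'.op (s + t)).symm
    rw [e] at hg'
    exact hg'

end Groth.Agent.ModPull
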