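import Groth.Agent.ModPull.Free
import Groth.Agent.ModPull.Refine

/-!
# Pulled back sections
-/

universe u

open CategoryTheory CategoryTheory.Limits Opposite MonoidalCategory
open Groth.Agent.ModTensor

namespace Groth.Agent.ModPull

variable {C D : Type u} [SmallCategory C] [SmallCategory D] {J : GrothendieckTopology C}
  {K : GrothendieckTopology D} {O_C : Sheaf J CommRingCat.{u}} {O_D : Sheaf K CommRingCat.{u}}
  (f : ModSite.RMor O_C O_D)

/-- The ring map of the morphism of ringed sites on sections. -/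
noncomputable def shp {U : Dᵒᵖ} (r : O_D.obj.obj U) : O_C.obj.obj (op (f.fn.obj U.unop)) :=
  (f.sharp.hom.app U).hom r

lemma shp_map {U V : Dᵒᵖ} (g : U ⟶ V) (r : O_D.obj.obj U) :
    shp f ((O_D.obj.map g).hom r) = (O_C.obj.map (f.fn.map g.unop).op).hom (shp f r) :=
  ConcreteCategory.congr_hom (f.sharp.hom.naturality g) r

/-- The pullback of a section. -/
noncomputable def pu (M : ModSite.Mod O_D) {U : Dᵒᵖ} (x : ((fg O_D).obj M).obj U) :
    ((fg O_C).obj (f.pull.obj M)).obj (op (f.fn.obj U.unop)) :=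
  ((fg O_D).map (f.adj.unit.app M)).app U x

lemma pu_add (M : ModSite.Mod O_D) {U : Dᵒᵖ} (x y : ((fg O_D).obj M).obj U) :
    pu f M (x + y) = pu f M x + pu f M y :=
  map_add (((fg O_D).map (f.adj.unit.app M)).app U).hom x y

lemma pu_zero (M : ModSite.Mod O_D) {U : Dᵒᵖ} : pu f M (0 : ((fg O_D).obj M).obj U) = 0 :=
  map_zero (((fg O_D).map (f.adj.unit.app M)).app U).hom

lemma pu_smul (M : ModSite.Mod O_D) {U : Dᵒᵖ} (r : O_D.obj.obj U) (x : ((fg O_D).obj M).obj U) :
    pu f M (r • x) = shp f r • pu f M x :=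
  map_smul (((fg O_D).map (f.adj.unit.app M)).app U).hom r x

lemma pu_rs (M : ModSite.Mod O_D) {U V : Dᵒᵖ} (g : U ⟶ V) (x : ((fg O_D).obj M).obj U) :
    pu f M (rs ((fg O_D).obj M) g x) =
      rs ((fg O_C).obj (f.pull.obj M)) (f.fn.map g.unop).op (pu f M x) :=
  app_rs ((fg O_D).map (f.adj.unit.app M)) g x

lemma pu_naturality {M N : ModSite.Mod O_D} (φ : M ⟶ N) {U : Dᵒᵖ} (x : ((fg O_D).obj M).obj U) :
    ((fg O_C).map (f.pull.map φ)).app (op (f.fn.obj U.unop)) (pu f M x) = pu f N (((fg O_D).map φ).app U x) :=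
  (congrArg (fun k => ((fg O_D).map k).app U x) (f.adj.unit.naturality φ)).symm

lemma adj_homEquiv_app {M : ModSite.Mod O_D} {N : ModSite.Mod O_C} (k : f.pull.obj M ⟶ N) {U : Dᵒᵖ}
    (x : ((fg O_D).obj M).obj U) :
    ((fg O_D).map (f.adj.homEquiv M N k)).app U x =
      ((fg O_C).map k).app (op (f.fn.obj U.unop)) (pu f M x) := by
  refine (congrArg (fun t => ((fg O_D).map t).app U x) (f.adj.homEquiv_unit M N k)).trans ?_
  rfl

variable {ι : Type u} (U : ι → D)

/-- The images of a family of objects. -/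
abbrev imgFam : ι → C := fun i => f.fn.obj (U i)

/-- The pullback of a free module is free, one way. -/
noncomputable def pullFreeHom :
    f.pull.obj ((sh O_D).obj (sigFree O_D U)) ⟶ (sh O_C).obj (sigFree O_C (imgFam f U)) :=
  (f.adj.homEquiv _ _).symm (((shAdj O_D).homEquiv _ _).symm
    (sigDesc fun i => (shu (sigFree O_C (imgFam f U)) (bs (imgFam f U) (X := op (f.fn.obj (U i))) i (𝟙 _)))))

/-- The pullback of a free module is free, the other way. -/
noncomputable def pullFreeInv :
    (sh O_C).obj (sigFree O_C (imgFam f U)) ⟶ f.pull.obj ((sh O_D).obj (sigFree O_D U)) :=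
  ((shAdj O_C).homEquiv _ _).symm
    (sigDesc fun i => pu f _ (shu (sigFree O_D U) (bs U (X := op (U i)) i (𝟙 _))))

lemma pullFreeHom_pu {V : Dᵒᵖ} (i : ι) (a : V.unop ⟶ U i) :
    ((fg O_C).map (pullFreeHom f U)).app (op (f.fn.obj V.unop)) (pu f _ (shu (sigFree O_D U) (bs U i a))) =
      shu (sigFree O_C (imgFam f U)) (bs (imgFam f U) i (f.fn.map a)) := by
  refine (adj_homEquiv_app f (pullFreeHom f U) _).symm.trans ?_
  rw [pullFreeHom, Equiv.apply_symm_apply]
  refine (shu_desc _ _).trans ?_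
  rw [Equiv.apply_symm_apply]
  refine (sigDesc_bs _ i a).trans ?_
  refine (rs_shu (sigFree O_C (imgFam f U)) (f.fn.map a).op _).trans ?_
  exact congrArg (fun t => shu (sigFree O_C (imgFam f U)) t) (rs_bs_id (imgFam f U) i (f.fn.map a))

lemma pullFreeInv_bs {W : Cᵒᵖ} (i : ι) (a : W.unop ⟶ f.fn.obj (U i)) :
    ((fg O_C).map (pullFreeInv f U)).app W (shu (sigFree O_C (imgFam f U)) (bs (imgFam f U) i a)) =
      rs ((fg O_C).obj (f.pull.obj _)) a.op (pu f _ (shu (sigFree O_D U) (bs U (X := op (U i)) i (𝟙 _)))) := by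
  let n : ∀ i, ((fg O_C).obj (f.pull.obj ((sh O_D).obj (sigFree O_D U)))).obj (op (imgFam f U i)) :=
    fun i => pu f _ (shu (sigFree O_D U) (bs U (X := op (U i)) i (𝟙 _)))
  have e : (shAdj O_C).homEquiv _ _ (pullFreeInv f U) = sigDesc (U := imgFam f U) n :=
    Equiv.apply_symm_apply _ _
  refine (shu_desc (pullFreeInv f U) _).trans ?_
  refine (congrArg (fun k => k.app W (bs (imgFam f U) i a)) e).trans ?_
  exact sigDesc_bs (U := imgFam f U) n i a

/-- The pullback of a free module is free. -/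
noncomputable def pullFreeIso :
    f.pull.obj ((sh O_D).obj (sigFree O_D U)) ≅ (sh O_C).obj (sigFree O_C (imgFam f U)) where
  hom := pullFreeHom f U
  inv := pullFreeInv f U
  hom_inv_id := by
    refine (f.adj.homEquiv _ _).injective ?_
    refine ((shAdj O_D).homEquiv _ _).injective ?_
    refine sigFree_hom_ext fun i => ?_
    refine (shu_desc _ _).symm.trans (Eq.trans ?_ (shu_desc _ _))
    refine (adj_homEquiv_app f _ _).trans (Eq.trans ?_ (adj_homEquiv_app f _ _).symm)
    refine (congrArg (((fg O_C).map (pullFreeInv f U)).app _) (pullFreeHom_pu f U i (𝟙 _))).trans ?_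
    refine (pullFreeInv_bs f U i _).trans ?_
    rw [CategoryTheory.Functor.map_id, op_id]
    exact rs_id _
  inv_hom_id := by
    refine ((shAdj O_C).homEquiv _ _).injective ?_
    refine sigFree_hom_ext fun i => ?_
    refine (shu_desc _ _).symm.trans (Eq.trans ?_ (shu_desc _ _))
    refine (congrArg (((fg O_C).map (pullFreeHom f U)).app _) (pullFreeInv_bs f U i (𝟙 _))).trans ?_
    refine (congrArg (((fg O_C).map (pullFreeHom f U)).app _) (rs_id _)).trans ?_
    refine (pullFreeHom_pu f U i (𝟙 (U i))).trans ?_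
    exact congrArg (fun t => shu (sigFree O_C (imgFam f U)) (bs (imgFam f U) (X := op (f.fn.obj (U i))) i t))
      (f.fn.map_id (U i))

/-- The free module on all sections of a module. -/
noncomputable def coverHom (M : ModSite.Mod O_D) :
    (sh O_D).obj (sigFree O_D (fun p : (Σ U : D, ((fg O_D).obj M).obj (op U)) => p.1)) ⟶ M :=
  ((shAdj O_D).homEquiv _ _).symm (sigDesc fun p => p.2)

lemma coverHom_bs (M : ModSite.Mod O_D) {V : Dᵒᵖ} (p : Σ U : D, ((fg O_D).obj M).obj (op U))
    (a : V.unop ⟶ p.1) :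
    ((fg O_D).map (coverHom M)).app V (shu _ (bs (fun p : (Σ U : D, ((fg O_D).obj M).obj (op U)) => p.1) p a)) =
      rs ((fg O_D).obj M) a.op p.2 := by
  refine (shu_desc _ _).trans ?_
  rw [coverHom, Equiv.apply_symm_apply]
  exact sigDesc_bs _ p a

instance epi_coverHom (M : ModSite.Mod O_D) : Epi (coverHom M) := by
  refine ⟨fun {N} g h e => (fg O_D).map_injective (PresheafOfModules.hom_ext fun V =>
    ModuleCat.hom_ext (LinearMap.ext fun x => ?_))⟩
  have hx := coverHom_bs (V := V) M ⟨V.unop, x⟩ (𝟙 _)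
  rw [op_id, rs_id] at hx
  have := congrArg (fun k => ((fg O_D).map k).app V (shu (sigFree O_D (fun p : (Σ U : D, ((fg O_D).obj M).obj (op U)) => p.1)) (bs _ ⟨V.unop, x⟩ (𝟙 _)))) e
  exact ((congrArg (fun t => ((fg O_D).map g).app V t) hx).symm.trans this).trans
    (congrArg (fun t => ((fg O_D).map h).app V t) hx)

end Groth.Agent.ModPull
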